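import Groth.Agent.KFlat.ClosedImm
import Groth.Agent.DerPerf.Local

/-!
The projection morphism is an isomorphism for the structure sheaf.
-/

set_option autoImplicit false
set_option backward.isDefEq.respectTransparency false
set_option backward.isDefEq.respectTransparency.types false
set_option linter.style.haveILetI false
set_option linter.unusedSectionVars false

universe u

open CategoryTheory Limits Opposite TopologicalSpace MonoidalCategory AlgebraicGeometry TensorProduct

namespace Groth.Agent.ProjForm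

open Groth.Agent.KFlat

variable {X : Scheme.{u}}

/-- `a ↦ a ⊗ 1` on presheaves -/
noncomputable def rhoPre (A : X.Modules) :
    DCoh.toP.obj A ⟶ PT (DCoh.toP.obj A) (DCoh.toP.obj (Coh.structureModule X)) :=
  (ρ_ (DCoh.toP.obj A)).inv

lemma rhoPre_app (A : X.Modules) (U : X.Opens) (a : (DCoh.toP.obj A).obj (op U)) :
    (rhoPre A).app (op U) a = ptmul (DCoh.toP.obj A) (DCoh.toP.obj (Coh.structureModule X)) a
      (show (DCoh.toP.obj (Coh.structureModule X)).obj (op U) from (1 : Γ(X, U))) := rfl

/-- `A ⟶ A ⊗ O` -/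
noncomputable def rho (A : X.Modules) : A ⟶ ((schB X).obj A).obj (Coh.structureModule X) :=
  ⟨rhoPre A ≫ shUnit _⟩

lemma rho_app (A : X.Modules) (U : X.Opens) (a : (DCoh.toP.obj A).obj (op U)) :
    (DCoh.toP.map (rho A)).app (op U) a = (shUnit (PT (DCoh.toP.obj A) (DCoh.toP.obj (Coh.structureModule X)))).app (op U)
      (ptmul (DCoh.toP.obj A) (DCoh.toP.obj (Coh.structureModule X)) a
        (show (DCoh.toP.obj (Coh.structureModule X)).obj (op U) from (1 : Γ(X, U)))) := rfl

lemma isIso_rho (A : X.Modules) : IsIso (rho A) := by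
  let adj := PresheafOfModules.sheafificationAdjunction.{u} (R := X.ringCatSheaf) (𝟙 X.ringCatSheaf.obj)
  haveI : IsIso (adj.counit.app A) := inferInstance
  haveI : IsIso (rhoPre A) := inferInstanceAs (IsIso (ρ_ (DCoh.toP.obj A)).inv)
  have h : adj.counit.app A ≫ rho A = DCoh.shP.map (rhoPre A) := by
    refine (adj.homEquiv _ _).injective ?_
    rw [adj.homEquiv_unit, adj.homEquiv_unit, Functor.map_comp]
    refine (Category.assoc _ _ _).symm.trans ?_
    erw [adj.right_triangle_components, Category.id_comp]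
    exact shUnit_natural (rhoPre A)
  haveI : IsIso (adj.counit.app A ≫ rho A) := by rw [h]; infer_instance
  exact IsIso.of_isIso_comp_left (adj.counit.app A) _

variable {Y : Scheme.{u}} (f : X ⟶ Y)

lemma tens_map_right_app (A : X.Modules) {B B' : X.Modules} (b : B ⟶ B') (U : X.Opens)
    (a : (DCoh.toP.obj A).obj (op U)) (c : (DCoh.toP.obj B).obj (op U)) :
    (DCoh.toP.map (((schB X).obj A).map b)).app (op U)
        ((shUnit (PT (DCoh.toP.obj A) (DCoh.toP.obj B))).app (op U) (ptmul (DCoh.toP.obj A) (DCoh.toP.obj B) a c)) =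
      (shUnit (PT (DCoh.toP.obj A) (DCoh.toP.obj B'))).app (op U)
        (ptmul (DCoh.toP.obj A) (DCoh.toP.obj B') a ((DCoh.toP.map b).app (op U) c)) :=
  (congrArg (fun t : PT (DCoh.toP.obj A) (DCoh.toP.obj B) ⟶ _ => (t.app (op U)).hom (ptmul _ _ a c))
    (shUnit_natural (DCoh.toP.obj A ◁ DCoh.toP.map b))).symm

lemma tens_map_left_app {A A' : X.Modules} (a : A ⟶ A') (B : X.Modules) (U : X.Opens)
    (m : (DCoh.toP.obj A).obj (op U)) (c : (DCoh.toP.obj B).obj (op U)) :
    (DCoh.toP.map (((schB X).map a).app B)).app (op U)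
        ((shUnit (PT (DCoh.toP.obj A) (DCoh.toP.obj B))).app (op U) (ptmul (DCoh.toP.obj A) (DCoh.toP.obj B) m c)) =
      (shUnit (PT (DCoh.toP.obj A') (DCoh.toP.obj B))).app (op U)
        (ptmul (DCoh.toP.obj A') (DCoh.toP.obj B) ((DCoh.toP.map a).app (op U) m) c) :=
  (congrArg (fun t : PT (DCoh.toP.obj A) (DCoh.toP.obj B) ⟶ _ => (t.app (op U)).hom (ptmul _ _ m c))
    (shUnit_natural (DCoh.toP.map a ▷ DCoh.toP.obj B))).symm

/-- the projection morphism on pure tensors -/
lemma projHom_app (M : X.Modules) (N : Y.Modules) (U : Y.Opens)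
    (m : (DCoh.toP.obj ((Scheme.Modules.pushforward f).obj M)).obj (op U)) (n : (DCoh.toP.obj N).obj (op U)) :
    (DCoh.toP.map (projHom f M N)).app (op U)
        ((shUnit (PT (DCoh.toP.obj ((Scheme.Modules.pushforward f).obj M)) (DCoh.toP.obj N))).app (op U)
          (ptmul _ _ m n)) =
      (shUnit (PT (DCoh.toP.obj M) (DCoh.toP.obj ((Scheme.Modules.pullback f).obj N)))).app (op (f ⁻¹ᵁ U))
        (ptmul (DCoh.toP.obj M) (DCoh.toP.obj ((Scheme.Modules.pullback f).obj N))
          (show (DCoh.toP.obj M).obj (op (f ⁻¹ᵁ U)) from m) (pullSec f N U n)) := by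
  let adj := Scheme.Modules.pullbackPushforwardAdjunction f
  let A := (Scheme.Modules.pushforward f).obj M
  let θ := pullTensorHom f A N ≫ ((schB X).map (adj.counit.app M)).app ((Scheme.Modules.pullback f).obj N)
  refine (congrArg (fun t => (t.app U).hom ((shUnit (PT (DCoh.toP.obj A) (DCoh.toP.obj N))).app (op U) (ptmul _ _ m n)))
    (adj.homEquiv_unit _ _ θ)).trans ?_
  refine (congrArg ((((schB X).map (adj.counit.app M)).app ((Scheme.Modules.pullback f).obj N)).app (f ⁻¹ᵁ U)).hom
    (pullTensorHom_spec f A N U m n)).trans ?_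
  refine (tens_map_left_app (adj.counit.app M) _ (f ⁻¹ᵁ U) (pullSec f A U m) (pullSec f N U n)).trans ?_
  refine congrArg (fun z => (shUnit _).app (op (f ⁻¹ᵁ U)) (ptmul _ _ z (pullSec f N U n))) ?_
  exact congrArg (fun t => (t.app U).hom m) (adj.right_triangle_components M)

lemma pullUnitIso_one (U : Y.Opens) :
    (DCoh.toP.map (DerPerf.pullUnitIso f).hom).app (op (f ⁻¹ᵁ U))
        (pullSec f (Coh.structureModule Y) U
          (show (DCoh.toP.obj (Coh.structureModule Y)).obj (op U) from (1 : Γ(Y, U)))) =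
      (show (DCoh.toP.obj (Coh.structureModule X)).obj (op (f ⁻¹ᵁ U)) from (1 : Γ(X, f ⁻¹ᵁ U))) := by
  have h : (Scheme.Modules.pullbackPushforwardAdjunction f).unit.app (Coh.structureModule Y) ≫
      (Scheme.Modules.pushforward f).map (DerPerf.pullUnitIso f).hom =
      SheafOfModules.unitToPushforwardObjUnit f.toRingCatSheafHom :=
    ((Scheme.Modules.pullbackPushforwardAdjunction f).homEquiv_unit _ _ _).symm.trans
      (Equiv.apply_symm_apply _ _)
  exact (congrArg (fun t : Coh.structureModule Y ⟶ (Scheme.Modules.pushforward f).obj (Coh.structureModule X) =>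
    (Scheme.Modules.Hom.app t U).hom (show (DCoh.toP.obj (Coh.structureModule Y)).obj (op U) from (1 : Γ(Y, U)))) h).trans
    (map_one (f.app U).hom)

/-- the projection morphism for the structure sheaf -/
theorem isIso_projHom_unit (M : X.Modules) : IsIso (projHom f M (Coh.structureModule Y)) := by
  haveI := isIso_rho M
  haveI := isIso_rho ((Scheme.Modules.pushforward f).obj M)
  have h : rho ((Scheme.Modules.pushforward f).obj M) ≫ projHom f M (Coh.structureModule Y) ≫
      (Scheme.Modules.pushforward f).map (((schB X).obj M).map (DerPerf.pullUnitIso f).hom) =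
      (Scheme.Modules.pushforward f).map (rho M) := by
    refine Scheme.Modules.hom_ext _ _ fun U => ?_
    ext a
    refine (congrArg ((((schB X).obj M).map (DerPerf.pullUnitIso f).hom).app (f ⁻¹ᵁ U)).hom
      (projHom_app f M (Coh.structureModule Y) U a
        (show (DCoh.toP.obj (Coh.structureModule Y)).obj (op U) from (1 : Γ(Y, U))))).trans ?_
    refine (tens_map_right_app M (DerPerf.pullUnitIso f).hom (f ⁻¹ᵁ U) a _).trans ?_
    exact congrArg (fun z => (shUnit _).app (op (f ⁻¹ᵁ U)) (ptmul (DCoh.toP.obj M) _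
      (show (DCoh.toP.obj M).obj (op (f ⁻¹ᵁ U)) from a) z)) (pullUnitIso_one f U)
  haveI : IsIso (rho ((Scheme.Modules.pushforward f).obj M) ≫ projHom f M (Coh.structureModule Y) ≫
      (Scheme.Modules.pushforward f).map (((schB X).obj M).map (DerPerf.pullUnitIso f).hom)) := by
    rw [h]; infer_instance
  haveI := IsIso.of_isIso_comp_left (rho ((Scheme.Modules.pushforward f).obj M))
    (projHom f M (Coh.structureModule Y) ≫
      (Scheme.Modules.pushforward f).map (((schB X).obj M).map (DerPerf.pullUnitIso f).hom))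
  exact IsIso.of_isIso_comp_right _
    ((Scheme.Modules.pushforward f).map (((schB X).obj M).map (DerPerf.pullUnitIso f).hom))

end Groth.Agent.ProjForm
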