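import Groth.Agent.ProjForm.MapTensHom
import Groth.Agent.ProjForm.Unit

/-!
The projection morphism of complexes `f_*L ⊗ P ⟶ f_*(L ⊗ f^*P)`.
-/

set_option autoImplicit false
set_option backward.isDefEq.respectTransparency false
set_option backward.isDefEq.respectTransparency.types false
set_option linter.style.haveILetI false
set_option linter.unusedSectionVars false

universe u

open CategoryTheory Limits AlgebraicGeometry HomologicalComplex

namespace Groth.Agent.ProjForm

open Groth.Agent.KFlat

section Single

variable {A₁ A₂ A : Type*} [Category* A₁] [Category* A₂] [Category* A] [Abelian A₁] [Abelian A₂] [Abelian A]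
  (B : A₁ ⥤ A₂ ⥤ A) [B.Additive] [∀ X, (B.obj X).Additive]

/-- one summand of a total tensor product with a complex in a single degree -/
lemma isIso_ι_of_isZero (L : CochainComplex A₁ ℤ) (K : CochainComplex A₂ ℤ)
    [HasMapBifunctor L K B (ComplexShape.up ℤ)] (k : ℤ) (hK : ∀ q, q ≠ k → IsZero (K.X q)) (n p : ℤ)
    (h : ComplexShape.π (ComplexShape.up ℤ) (ComplexShape.up ℤ) (ComplexShape.up ℤ) (p, k) = n) :
    IsIso (ιMapBifunctor L K B (ComplexShape.up ℤ) p k n h) := by
  have h' : p + k = n := h
  refine ⟨mapBifunctorDesc fun p' q' hpq => if hq : q' = k then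
    eqToHom (by
      have h'' : p' + q' = n := hpq
      obtain rfl : p' = p := by omega
      rw [hq]) else 0, ?_, mapBifunctor.hom_ext fun p' q' hpq => ?_⟩
  · rw [ι_mapBifunctorDesc, dif_pos rfl]
    rfl
  · rw [ι_mapBifunctorDesc_assoc, Category.comp_id]
    by_cases hq : q' = k
    · have h'' : p' + q' = n := hpq
      obtain rfl : p' = p := by omega
      subst hq
      rw [dif_pos rfl, eqToHom_refl, Category.id_comp]
    · exact ((B.obj _).map_isZero (hK q' hq)).eq_of_src _ _

end Single

variable {X Y : Scheme.{u}} (f : X ⟶ Y)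

/-- direct image of complexes -/
noncomputable abbrev pC : CochainComplex X.Modules ℤ ⥤ CochainComplex Y.Modules ℤ :=
  (Scheme.Modules.pushforward f).mapHomologicalComplex (ComplexShape.up ℤ)

/-- inverse image of complexes -/
noncomputable abbrev qC : CochainComplex Y.Modules ℤ ⥤ CochainComplex X.Modules ℤ :=
  (Scheme.Modules.pullback f).mapHomologicalComplex (ComplexShape.up ℤ)

/-- `P ↦ f_*L ⊗ P` -/
noncomputable abbrev lhsF (L : CochainComplex X.Modules ℤ) : CochainComplex Y.Modules ℤ ⥤ CochainComplex Y.Modules ℤ :=
  DCoh.tensorCx.obj ((pC f).obj L)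

/-- `P ↦ L ⊗ f^*P` -/
noncomputable abbrev rhsF (L : CochainComplex X.Modules ℤ) : CochainComplex Y.Modules ℤ ⥤ CochainComplex X.Modules ℤ :=
  qC f ⋙ DCoh.tensorCx.obj L

/-- the component of the projection morphism -/
noncomputable def thetaApp (L : CochainComplex X.Modules ℤ) (P : CochainComplex Y.Modules ℤ) :
    (lhsF f L).obj P ⟶ (pC f).obj ((rhsF f L).obj P) :=
  mapTensHom (Scheme.Modules.pushforward f) (𝟭 _) (𝟭 _) (Scheme.Modules.pullback f) (Scheme.Modules.pushforward f)
    (schB X) (schB Y) (fun M N => projHom f M N) (fun a N => projHom_natural_left f a N)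
    (fun M _ _ b => projHom_natural_right f M b) L P

/-- the projection morphism of complexes -/
noncomputable def theta (L : CochainComplex X.Modules ℤ) : lhsF f L ⟶ rhsF f L ⋙ pC f where
  app P := thetaApp f L P
  naturality P P' u :=
    mapTensHom_natural₂ (Scheme.Modules.pushforward f) (𝟭 _) (𝟭 _) (Scheme.Modules.pullback f)
      (Scheme.Modules.pushforward f) (schB X) (schB Y) (fun M N => projHom f M N)
      (fun a N => projHom_natural_left f a N) (fun M _ _ b => projHom_natural_right f M b) L u

/-- the projection morphism for a module in a single degree -/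
theorem isIso_theta_single (L : CochainComplex X.Modules ℤ) (k : ℤ) (N : Y.Modules)
    (hN : ∀ M, IsIso (projHom f M N)) :
    IsIso ((theta f L).app ((HomologicalComplex.single Y.Modules (ComplexShape.up ℤ) k).obj N)) := by
  let S := (HomologicalComplex.single Y.Modules (ComplexShape.up ℤ) k).obj N
  have hS : ∀ q, q ≠ k → IsZero (S.X q) := fun q hq => HomologicalComplex.isZero_single_obj_X _ _ _ _ hq
  have he : ∀ M, IsIso (projHom f M (S.X k)) := fun M => by
    let i := HomologicalComplex.singleObjXSelf (ComplexShape.up ℤ) k N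
    haveI := hN M
    have h := projHom_natural_right f M i.hom
    haveI : IsIso (projHom f M (S.X k) ≫
        (Scheme.Modules.pushforward f).map (((schB X).obj M).map ((Scheme.Modules.pullback f).map i.hom))) := by
      rw [← h]; infer_instance
    exact IsIso.of_isIso_comp_right _
      ((Scheme.Modules.pushforward f).map (((schB X).obj M).map ((Scheme.Modules.pullback f).map i.hom)))
  haveI : ∀ n, IsIso (((theta f L).app S).f n) := fun n => by
    have h : ComplexShape.π (ComplexShape.up ℤ) (ComplexShape.up ℤ) (ComplexShape.up ℤ) (n - k, k) = n :=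
      sub_add_cancel n k
    haveI := isIso_ι_of_isZero (schB Y) ((pC f).obj L) S k hS n (n - k) h
    haveI := isIso_ι_of_isZero (schB X) L ((qC f).obj S) k
      (fun q hq => (Scheme.Modules.pullback f).map_isZero (hS q hq)) n (n - k) h
    have e := ι_mapTensHomX (Scheme.Modules.pushforward f) (𝟭 _) (𝟭 _) (Scheme.Modules.pullback f)
      (Scheme.Modules.pushforward f) (schB X) (schB Y) (fun M N => projHom f M N) L S n (n - k) k h
    haveI := he (L.X (n - k))
    have hG := Functor.map_isIso (Scheme.Modules.pushforward f)
      (ιMapBifunctor L ((qC f).obj S) (schB X) (ComplexShape.up ℤ) (n - k) k n h)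
    haveI : IsIso (ιMapBifunctor ((pC f).obj L) S (schB Y) (ComplexShape.up ℤ) (n - k) k n h ≫
        ((theta f L).app S).f n) := by
      refine e ▸ ?_
      exact IsIso.comp_isIso' inferInstance hG
    exact IsIso.of_isIso_comp_left (ιMapBifunctor ((pC f).obj L) S (schB Y) (ComplexShape.up ℤ) (n - k) k n h) _
  exact HomologicalComplex.Hom.isIso_of_components _

end Groth.Agent.ProjForm
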