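import Groth.Agent.ProjForm.Generate
import Groth.Agent.DQCoh.Coprod
import Groth.Agent.KFlat.TorAmp

/-!
# The projection formula
-/

set_option autoImplicit false
set_option backward.isDefEq.respectTransparency false
set_option backward.isDefEq.respectTransparency.types false
set_option linter.style.haveILetI false
set_option linter.unusedSectionVars false

universe u

open CategoryTheory Limits AlgebraicGeometry HomologicalComplex

attribute [local instance] HasDerivedCategory.standard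

namespace Groth.Agent.ProjForm

open Groth.Agent.KFlat

variable {X Y : Scheme.{u}}

/-- `- ⊗^L M` through a K-flat representative of `M` -/
lemma nonempty_ltIso (M : CochainComplex X.Modules ℤ) [DCoh.HasLTensorCx M] {P : CochainComplex X.Modules ℤ}
    (hP : DCoh.IsKFlat P) (e : Nonempty (DerivedCategory.Q.obj M ≅ DerivedCategory.Q.obj P))
    (A : CochainComplex X.Modules ℤ) :
    Nonempty ((DCoh.LTensorCx M).obj (DerivedCategory.Q.obj A) ≅ DerivedCategory.Q.obj ((DCoh.tensorCx.obj A).obj P)) := by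
  obtain ⟨e⟩ := e
  let A₁ := (resF X).obj A
  have hA₁ : DCoh.IsKFlat A₁ := isKFlat_resF A
  haveI := KFlat.hasLTensorCx A₁
  let s₁ : (DCoh.tensorCx.obj A₁).obj M ≅ (DCoh.tensorCx.obj M).obj A₁ := swapIso (braid X.sheaf) A₁ M
  let s₂ : (DCoh.tensorCx.obj P).obj A₁ ≅ (DCoh.tensorCx.obj A₁).obj P := swapIso (braid X.sheaf) P A₁
  haveI := quasiIso_map_app_sch P hP ((resψ X).app A)
  exact ⟨(DCoh.LTensorCx M).mapIso (asIso (DerivedCategory.Q.map ((resψ X).app A))).symm ≪≫ ltIso M hA₁ ≪≫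
    DerivedCategory.Q.mapIso s₁ ≪≫ (ltIsoOfKFlat hA₁ M).symm ≪≫ (DCoh.LTensorCx A₁).mapIso e ≪≫
    ltIsoOfKFlat hA₁ P ≪≫ DerivedCategory.Q.mapIso s₂ ≪≫
    asIso (DerivedCategory.Q.map ((DCoh.tensorCx.map ((resψ X).app A)).app P))⟩

variable (f : X ⟶ Y)

/-- `Lf^*` on K-flat complexes -/
noncomputable def lpullIso [DCoh.HasLpull f] {P : CochainComplex Y.Modules ℤ} (hP : DCoh.IsKFlat P) :
    (DCoh.Lpull f).obj (DerivedCategory.Q.obj P) ≅ DerivedCategory.Q.obj ((qC f).obj P) :=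
  haveI := KFlat.isIso_app_of_kFlat (KFlat.kFlatAcyclic_pullback f) (DCoh.Lpull f)
    ((DCoh.pullKh f).totalLeftDerivedCounit DerivedCategory.Qh
      (HomotopyCategory.quasiIso Y.Modules (ComplexShape.up ℤ))) hP
  haveI : IsIso ((DQCoh.lpullCounit f).app P) := by
    simp only [DQCoh.lpullCounit, NatTrans.comp_app, Functor.whiskerRight_app, Functor.whiskerLeft_app]
    infer_instance
  asIso ((DQCoh.lpullCounit f).app P)

variable [DCoh.HasRpush f]

/-- `Rf_*` on K-injective complexes -/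
noncomputable def rpushIso (J : CochainComplex X.Modules ℤ) [J.IsKInjective] :
    DerivedCategory.Q.obj ((pC f).obj J) ≅ (DCoh.Rpush f).obj (DerivedCategory.Q.obj J) :=
  haveI := DerPush.isIso_rpushUnit_app f
    (I := (HomotopyCategory.quotient X.Modules (ComplexShape.up ℤ)).obj J) ‹_›
  haveI : IsIso ((DQPush.unitQ f).app J) := by
    dsimp [DQPush.unitQ, AcycDef.unitQ]
    infer_instance
  asIso ((DQPush.unitQ f).app J)

/-- the projection formula, granted over an open cover of the base -/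
theorem nonempty_iso_of_good (E : DCoh.D X) {P : CochainComplex Y.Modules ℤ} (hP : DCoh.IsKFlat P)
    (K : CochainComplex Y.Modules ℤ) [DCoh.HasLTensorCx K]
    (hK : Nonempty (DerivedCategory.Q.obj K ≅ DerivedCategory.Q.obj P))
    (M : CochainComplex X.Modules ℤ) [DCoh.HasLTensorCx M]
    (hM : Nonempty (DerivedCategory.Q.obj M ≅ DerivedCategory.Q.obj ((qC f).obj P)))
    (hgood : ∀ (I : CochainComplex X.Modules ℤ) [I.IsKInjective], Nonempty (DerivedCategory.Q.obj I ≅ E) →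
      ∀ y : Y, ∃ V : Y.Opens, y ∈ V ∧ Good f I V P) :
    Nonempty ((DCoh.LTensorCx K).obj ((DCoh.Rpush f).obj E) ≅
      (DCoh.Rpush f).obj ((DCoh.LTensorCx M).obj E)) := by
  obtain ⟨I, hI, ⟨e⟩⟩ := HDU.exists_kInj_rep (A := X.Modules) E
  obtain ⟨J, s, hJ, hs⟩ := DerPush.exists_kInj_sch ((rhsF f I).obj P)
  haveI : QuasiIso ((theta f I).app P ≫ (pC f).map s) := quasiIso_of_qisOn _ fun y => by
    obtain ⟨V, hy, hV⟩ := hgood I ⟨e⟩ y
    exact ⟨V, hy, (good_iff s).1 hV⟩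
  obtain ⟨a⟩ := nonempty_ltIso K hP hK ((pC f).obj I)
  obtain ⟨b⟩ := nonempty_ltIso M (KFlat.isKFlat_pullback f hP) hM I
  exact ⟨(DCoh.LTensorCx K).mapIso ((DCoh.Rpush f).mapIso e.symm ≪≫ (rpushIso f I).symm) ≪≫ a ≪≫
    asIso (DerivedCategory.Q.map ((theta f I).app P ≫ (pC f).map s)) ≪≫ rpushIso f J ≪≫
    (DCoh.Rpush f).mapIso (asIso (DerivedCategory.Q.map s)).symm ≪≫
    (DCoh.Rpush f).mapIso (b.symm ≪≫ (DCoh.LTensorCx M).mapIso e)⟩

/-- **Projection formula** for quasi-coherent cohomology. -/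
theorem nonempty_projFormula [QuasiCompact f] [QuasiSeparated f] [DCoh.HasLpull f] (E : DCoh.D X)
    (hE : DCoh.IsQCohD E) (K : CochainComplex Y.Modules ℤ) (hK : DCoh.IsQCohD (DCoh.toD Y K)) [DCoh.HasLTensorCx K]
    (M : CochainComplex X.Modules ℤ) (hM : Nonempty (DCoh.toD X M ≅ (DCoh.Lpull f).obj (DCoh.toD Y K)))
    [DCoh.HasLTensorCx M] :
    Nonempty ((DCoh.LTensorCx K).obj ((DCoh.Rpush f).obj E) ≅ (DCoh.Rpush f).obj ((DCoh.LTensorCx M).obj E)) := by
  let P := (resF Y).obj K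
  have hP : DCoh.IsKFlat P := isKFlat_resF K
  let q : DerivedCategory.Q.obj P ≅ DerivedCategory.Q.obj K := asIso (DerivedCategory.Q.map ((resψ Y).app K))
  obtain ⟨m⟩ := hM
  refine nonempty_iso_of_good f E hP K ⟨q.symm⟩ M ⟨m ≪≫ (DCoh.Lpull f).mapIso q.symm ≪≫ lpullIso f hP⟩
    fun I _ ⟨e⟩ y => ?_
  obtain ⟨V, hV, hy⟩ := QC.exists_affine_mem y
  refine ⟨V, hy, good_of_affine f I hV (fun i => ?_) hP fun i => ?_⟩
  · exact QC.isQCoh_of_iso ((DerivedCategory.homologyFunctor _ i).mapIso e.symm ≪≫ KFlat.hdIso I i) (hE i)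
  · exact QC.isQCoh_of_iso ((DerivedCategory.homologyFunctor _ i).mapIso q.symm ≪≫ KFlat.hdIso P i) (hK i)

end Groth.Agent.ProjForm
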