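import Groth.Agent.ProjForm.Colim
import Groth.Agent.DQPush.OpenBC
import Mathlib.CategoryTheory.Adjunction.Triple

/-!
Extensions by zero of complexes on an open subscheme, and transfer of the projection formula.
-/

set_option autoImplicit false
set_option backward.isDefEq.respectTransparency false
set_option backward.isDefEq.respectTransparency.types false
set_option linter.style.haveILetI false
set_option linter.unusedSectionVars false

universe u

open CategoryTheory Limits AlgebraicGeometry HomologicalComplex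

attribute [local instance] HasDerivedCategory.standard

namespace Groth.Agent.ProjForm

open Groth.Agent.KFlat

variable {X Y W : Scheme.{u}}

/-- the cone of an isomorphism -/
noncomputable def coneIdIso {A : Type*} [Category* A] [Abelian A] {K L : CochainComplex A ℤ} (v : K ⟶ L) [IsIso v] :
    CochainComplex.mappingCone (𝟙 L) ≅ CochainComplex.mappingCone v where
  hom := CochainComplex.mappingCone.map (𝟙 L) v (inv v) (𝟙 L) (by simp)
  inv := CochainComplex.mappingCone.map v (𝟙 L) v (𝟙 L) (by simp)
  hom_inv_id := by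
    rw [← CochainComplex.mappingCone.map_comp]
    simp only [IsIso.inv_hom_id, Category.comp_id]
    exact CochainComplex.mappingCone.map_id _
  inv_hom_id := by
    rw [← CochainComplex.mappingCone.map_comp]
    simp only [IsIso.hom_inv_id, Category.comp_id]
    exact CochainComplex.mappingCone.map_id _

section Cone

variable {V : Y.Opens} {K L : CochainComplex Y.Modules ℤ} (u : K ⟶ L)

lemma kFlatOn_cone (hK : KFlatOn V K) (hL : KFlatOn V L) : KFlatOn V (CochainComplex.mappingCone u) := fun y hy =>
  (DRingKP.rflat_iff _).1 (rflat_of_iso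
    (CochainComplex.mappingCone.mapHomologicalComplexIso u (DerSch.stalkFunctor Y y)).symm
    (rflat_mappingCone ((stCx y).map u) ((DRingKP.rflat_iff _).2 (hK y hy)) ((DRingKP.rflat_iff _).2 (hL y hy))))

lemma kFlatOn_cone_of_isIso (h : ∀ y ∈ V, IsIso ((stCx y).map u)) : KFlatOn V (CochainComplex.mappingCone u) :=
  fun y hy => by
  haveI := h y hy
  exact (DRingKP.rflat_iff _).1 (rflat_of_iso
    (coneIdIso ((stCx y).map u) ≪≫
      (CochainComplex.mappingCone.mapHomologicalComplexIso u (DerSch.stalkFunctor Y y)).symm)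
    (rflat_mappingCone_id _))

end Cone

variable (j : W ⟶ Y) [IsOpenImmersion j]

lemma isIso_restrictJ_iff {M N : Y.Modules} (φ : M ⟶ N) :
    IsIso ((Scheme.Modules.restrictFunctor j).map φ) ↔
      ∀ y ∈ j.opensRange, IsIso ((DerSch.stalkFunctor Y y).map φ) := by
  have key : ∀ z : W, IsIso ((DerSch.stalkFunctor W z).map ((Scheme.Modules.restrictFunctor j).map φ)) ↔
      IsIso ((DerSch.stalkFunctor Y (j.base z)).map φ) := fun z => by
    have h := NatIso.isIso_map_iff (Scheme.Modules.restrictStalkNatIso j z) φ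
    rw [ConcreteCategory.isIso_iff_bijective, ConcreteCategory.isIso_iff_bijective] at h ⊢
    exact h
  constructor
  · rintro h y ⟨z, rfl⟩
    exact (key z).1 inferInstance
  · intro h
    exact isIso_of_stalks _ fun z => (key z).2 (h _ ⟨z, rfl⟩)

lemma qisOn_range_iff {K L : CochainComplex Y.Modules ℤ} (u : K ⟶ L) :
    QisOn j.opensRange u ↔ QuasiIso (((Scheme.Modules.restrictFunctor j).mapHomologicalComplex (ComplexShape.up ℤ)).map u) := by
  rw [qisOn_iff_restrict, quasiIso_iff]
  refine forall_congr' fun i => ?_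
  rw [quasiIsoAt_iff_isIso_homologyMap, isIso_restrict_iff, ← isIso_restrictJ_iff j]
  exact (NatIso.isIso_map_iff
    (NatIso.ofComponents (fun C : CochainComplex Y.Modules ℤ => (C.sc i).mapHomologyIso (Scheme.Modules.restrictFunctor j))
      (fun {C D} g => ShortComplex.mapHomologyIso_hom_naturality
        ((shortComplexFunctor Y.Modules (ComplexShape.up ℤ) i).map g) (Scheme.Modules.restrictFunctor j)) :
      (Scheme.Modules.restrictFunctor j).mapHomologicalComplex (ComplexShape.up ℤ) ⋙
          homologyFunctor W.Modules (ComplexShape.up ℤ) i ≅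
        homologyFunctor Y.Modules (ComplexShape.up ℤ) i ⋙ Scheme.Modules.restrictFunctor j) u).symm

/-- K-flatness over the open from K-flatness of the restriction -/
lemma kFlatOn_of_restrict {C : CochainComplex Y.Modules ℤ}
    (h : DCoh.IsKFlat (((Scheme.Modules.restrictFunctor j).mapHomologicalComplex (ComplexShape.up ℤ)).obj C)) :
    KFlatOn j.opensRange C := by
  rintro y ⟨z, rfl⟩
  have h' : DCoh.IsKFlat ((qC j).obj C) := (rflat_iff_sch _).2 (rflat_of_iso
    ((NatIso.mapHomologicalComplex (Scheme.Modules.restrictFunctorIsoPullback j) (ComplexShape.up ℤ)).app C)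
    ((rflat_iff_sch _).1 h))
  have h₂ := isKFlat_extendScalars (inv (j.stalkMap z)).hom ((isKFlat_iff_stalks _).1 h' z)
  let φ := (j.stalkMap z).hom
  let ψ := (inv (j.stalkMap z)).hom
  let e : (Scheme.Modules.pullback j ⋙ DerSch.stalkFunctor W z) ⋙ ModuleCat.extendScalars.{u, u, u} ψ ≅
      DerSch.stalkFunctor Y (j.base z) :=
    Functor.isoWhiskerRight (pullStalkIso j z) _ ≪≫ Functor.associator _ _ _ ≪≫
      Functor.isoWhiskerLeft _ ((ModuleCat.extendScalarsComp φ ψ).symm ≪≫
        eqToIso (congrArg ModuleCat.extendScalars.{u, u, u}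
          ((CommRingCat.hom_comp _ _).symm.trans (congrArg CommRingCat.Hom.hom (IsIso.hom_inv_id (j.stalkMap z))))) ≪≫
        ModuleCat.extendScalarsId _) ≪≫ Functor.rightUnitor _
  exact (DRingKP.rflat_iff _).1 (rflat_of_iso (Hom.isoOfComponents (fun n => e.app (C.X n))
    fun a b _ => (e.hom.naturality (C.d a b)).symm) ((DRingKP.rflat_iff _).2 h₂))

/-- extension by zero of complexes -/
noncomputable abbrev eC : CochainComplex W.Modules ℤ ⥤ CochainComplex Y.Modules ℤ :=
  (CxOX.extZero j).mapHomologicalComplex (ComplexShape.up ℤ)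

lemma isIso_extZero_unit : IsIso (CxOX.extZeroAdj j).unit :=
  (Adjunction.Triple.mk (CxOX.extZeroAdj j) (Scheme.Modules.restrictAdjunction j)).isIso_unit_iff_isIso_counit.2
    inferInstance

/-- restriction of an extension by zero -/
noncomputable def restrictExtIso (G : CochainComplex W.Modules ℤ) :
    G ≅ ((Scheme.Modules.restrictFunctor j).mapHomologicalComplex (ComplexShape.up ℤ)).obj ((eC j).obj G) :=
  haveI := isIso_extZero_unit j
  Hom.isoOfComponents (fun n => asIso ((CxOX.extZeroAdj j).unit.app (G.X n)))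
    fun a b _ => ((CxOX.extZeroAdj j).unit.naturality (G.d a b)).symm

lemma kFlatOn_eC {G : CochainComplex W.Modules ℤ} (hG : DCoh.IsKFlat G) : KFlatOn j.opensRange ((eC j).obj G) :=
  kFlatOn_of_restrict j ((rflat_iff_sch _).2 (rflat_of_iso (restrictExtIso j G) ((rflat_iff_sch _).1 hG)))

/-- maps out of extensions which restrict to quasi-isomorphisms -/
lemma exists_qisOn_to_kInj (G : CochainComplex W.Modules ℤ) (P : CochainComplex Y.Modules ℤ)
    (e : Nonempty (DerivedCategory.Q.obj G ≅
      DerivedCategory.Q.obj (((Scheme.Modules.restrictFunctor j).mapHomologicalComplex (ComplexShape.up ℤ)).obj P))) :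
    ∃ (J : CochainComplex Y.Modules ℤ) (u : (eC j).obj G ⟶ J) (s : P ⟶ J),
      QisOn j.opensRange u ∧ QuasiIso s := by
  obtain ⟨J, s, hJ, hs⟩ := DerPush.exists_kInj_sch P
  obtain ⟨e⟩ := e
  let R := (Scheme.Modules.restrictFunctor j).mapHomologicalComplex (ComplexShape.up ℤ)
  haveI : CochainComplex.IsKInjective (R.obj J) := DQPush.isKInjective_restrict_open j J hJ
  haveI : QuasiIso (R.map s) := quasiIso_map_of_preservesHomology s (Scheme.Modules.restrictFunctor j)
  obtain ⟨v, hv⟩ := KInj.Q_map_surjective (K := G) (I := R.obj J) (e.hom ≫ DerivedCategory.Q.map (R.map s))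
  haveI : QuasiIso v := (DerivedCategory.isIso_Q_map_iff_quasiIso _ _).1 (by rw [hv]; infer_instance)
  let a := KInj.mapHomologicalComplexAdj (CxOX.extZeroAdj j) (ComplexShape.up ℤ)
  let u := (a.homEquiv G J).symm v
  refine ⟨J, u, s, (qisOn_range_iff j u).2 ?_, hs⟩
  haveI : IsIso (a.unit.app G) := by
    haveI := isIso_extZero_unit j
    haveI : ∀ n, IsIso ((a.unit.app G).f n) := fun n => by
      change IsIso ((CxOX.extZeroAdj j).unit.app (G.X n)); infer_instance
    exact HomologicalComplex.Hom.isIso_of_components _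
  have h : a.unit.app G ≫ R.map u = v := (a.homEquiv_unit G J u).symm.trans ((a.homEquiv G J).apply_symm_apply v)
  haveI : QuasiIso (a.unit.app G ≫ R.map u) := by rw [h]; infer_instance
  exact quasiIso_of_comp_left (a.unit.app G) _

variable {f : X ⟶ Y} {I : CochainComplex X.Modules ℤ} [DCoh.HasRpush f]

/-- transfer from the extension by zero of a K-flat model of the restriction -/
theorem good_of_ext {P : CochainComplex Y.Modules ℤ} (hP : DCoh.IsKFlat P) {G : CochainComplex W.Modules ℤ}
    (hG : DCoh.IsKFlat G) (e : Nonempty (DerivedCategory.Q.obj G ≅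
      DerivedCategory.Q.obj (((Scheme.Modules.restrictFunctor j).mapHomologicalComplex (ComplexShape.up ℤ)).obj P)))
    (h : Good f I j.opensRange ((eC j).obj G)) : Good f I j.opensRange P := by
  obtain ⟨J, u, s, hu, hs⟩ := exists_qisOn_to_kInj j G P e
  let V := j.opensRange
  have kf : ∀ C : CochainComplex Y.Modules ℤ, KFlatOn V ((resF Y).obj C) := fun C =>
    kFlatOn_of_isKFlat V (isKFlat_resF C)
  have qψ : ∀ C : CochainComplex Y.Modules ℤ, QisOn V ((resψ Y).app C) := fun C => qisOn_of_quasiIso V _
  have hu' : QisOn V ((resF Y).map u) := by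
    refine QisOn.of_comp_right (qψ J) ?_
    exact ((resψ Y).naturality u).symm ▸ (qψ _).comp hu
  have hs' : QisOn V ((resF Y).map s) := by
    refine QisOn.of_comp_right (qψ J) ?_
    exact ((resψ Y).naturality s).symm ▸ (qψ _).comp (qisOn_of_quasiIso V s)
  have h₁ : Good f I V ((resF Y).obj ((eC j).obj G)) :=
    (good_iff_of_qisOn ((resψ Y).app _) (qψ _) (kFlatOn_cone _ (kf _) (kFlatOn_eC j hG))).2 h
  have h₂ := (good_iff_of_qisOn _ hu' (kFlatOn_cone _ (kf _) (kf _))).1 h₁
  have h₃ := (good_iff_of_qisOn _ hs' (kFlatOn_cone _ (kf _) (kf _))).2 h₂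
  exact (good_iff_of_qisOn ((resψ Y).app P) (qψ _) (kFlatOn_cone _ (kf _) (kFlatOn_of_isKFlat V hP))).1 h₃

end Groth.Agent.ProjForm
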