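import Groth.Agent.ProjForm.Main
import Groth.Agent.DerPerf.Tensor

/-!
The projection formula for perfect complexes, without finiteness conditions.
-/

set_option autoImplicit false
set_option backward.isDefEq.respectTransparency false
set_option backward.isDefEq.respectTransparency.types false
set_option linter.style.haveILetI false
set_option linter.unusedSectionVars false

universe u

open CategoryTheory Limits AlgebraicGeometry HomologicalComplex

attribute [local instance] HasDerivedCategory.standard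

namespace Groth.Agent.ProjForm

open Groth.Agent.KFlat

variable {X Y W : Scheme.{u}} (j : W ⟶ Y) [IsOpenImmersion j]

/-- comparison of the extension of a free module with a free module -/
lemma exists_ext_to_free (α : Type u) :
    ∃ φ : (CxOX.extZero j).obj (∐ fun _ : α => Coh.structureModule W) ⟶ ∐ fun _ : α => Coh.structureModule Y,
      ∀ y ∈ j.opensRange, IsIso ((DerSch.stalkFunctor Y y).map φ) := by
  let Rj := Scheme.Modules.restrictFunctor j
  let a := CxOX.extZeroAdj j
  haveI : PreservesColimitsOfSize.{u, u} Rj := (Scheme.Modules.restrictAdjunction j).leftAdjoint_preservesColimits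
  let γ : (∐ fun _ : α => Coh.structureModule W) ≅ Rj.obj (∐ fun _ : α => Coh.structureModule Y) :=
    (Limits.Sigma.mapIso fun _ => (DerPerf.pullUnitIso j).symm ≪≫
        ((Scheme.Modules.restrictFunctorIsoPullback j).app (Coh.structureModule Y)).symm) ≪≫
      (PreservesCoproduct.iso Rj _).symm
  refine ⟨(a.homEquiv _ _).symm γ.hom, ?_⟩
  rw [← isIso_restrictJ_iff]
  haveI := isIso_extZero_unit j
  have h : a.unit.app (∐ fun _ : α => Coh.structureModule W) ≫ Rj.map ((a.homEquiv _ _).symm γ.hom) = γ.hom :=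
    (a.homEquiv_unit _ _ _).symm.trans ((a.homEquiv _ _).apply_symm_apply _)
  haveI : IsIso (a.unit.app (∐ fun _ : α => Coh.structureModule W) ≫ Rj.map ((a.homEquiv _ _).symm γ.hom)) := by
    rw [h]; infer_instance
  exact IsIso.of_isIso_comp_left (a.unit.app (∐ fun _ : α => Coh.structureModule W)) _

variable (f : X ⟶ Y) [DCoh.HasRpush f] (I : CochainComplex X.Modules ℤ) [I.IsKInjective]

/-- extensions of finite free modules in one degree -/
lemma good_ext_free (k : ℤ) (n : ℕ) :
    Good f I j.opensRange ((sgl k).obj ((CxOX.extZero j).obj (FlatMod.freeMod W n))) := by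
  let e : (∐ fun _ : ULift.{u} (Fin n) => Coh.structureModule W) ≅ FlatMod.freeMod W n :=
    Limits.Sigma.whiskerEquiv (f := fun _ : ULift.{u} (Fin n) => Coh.structureModule W) (g := fun _ : Fin n => Coh.structureModule W) Equiv.ulift fun _ => Iso.refl _
  refine good_of_iso ((sgl k).mapIso ((CxOX.extZero j).mapIso e)) ?_
  obtain ⟨φ, hφ⟩ := exists_ext_to_free j (ULift.{u} (Fin n))
  have h' : ∀ y ∈ j.opensRange, IsIso ((stCx y).map ((sgl k).map φ)) := fun y hy => by
    haveI := hφ y hy
    exact (NatIso.isIso_map_iff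
      (HomologicalComplex.singleMapHomologicalComplex (DerSch.stalkFunctor Y y) (ComplexShape.up ℤ) k) φ).2
        (inferInstanceAs (IsIso ((single _ (ComplexShape.up ℤ) k).map ((DerSch.stalkFunctor Y y).map φ))))
  have hq : QisOn j.opensRange ((sgl k).map φ) := fun y hy => by haveI := h' y hy; infer_instance
  refine (good_iff_of_qisOn _ hq (kFlatOn_cone_of_isIso _ h')).2 ?_
  exact prop_single_coprod (fun P => Good f I j.opensRange P) (fun e h => good_of_iso e h)
    (fun _ h => good_of_isZero h) (fun σ h₁ h₃ => good_middle σ h₁ h₃) k _ fun _ => good_unit f I j.opensRange k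

/-- **the projection formula near a point for a perfect K-flat complex** -/
theorem exists_good_of_perfect {P : CochainComplex Y.Modules ℤ} (hP : DCoh.IsKFlat P)
    (hperf : DCoh.IsPerfect (DerivedCategory.Q.obj P)) (y : Y) : ∃ V : Y.Opens, y ∈ V ∧ Good f I V P := by
  classical
  obtain ⟨V₀, hy, hV₀⟩ := hperf y
  obtain ⟨E, hE, ⟨e⟩⟩ := hV₀ P ⟨Iso.refl _⟩
  obtain ⟨⟨a, b, hab⟩, hfree⟩ := hE
  obtain ⟨W', hy', hW'⟩ := DerPerf.exists_common_free (Finset.Icc a b) E.X (fun i _ => hfree i) ⟨y, hy⟩
  let j : (W' : Scheme.{u}) ⟶ Y := W'.ι ≫ V₀.ι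
  refine ⟨j.opensRange, ⟨⟨⟨y, hy⟩, hy'⟩, rfl⟩, ?_⟩
  let E' := (DCoh.restrictCx W').obj E
  let c : ((Scheme.Modules.restrictFunctor j).mapHomologicalComplex (ComplexShape.up ℤ)).obj P ≅
      (DCoh.restrictCx W').obj ((DCoh.restrictCx V₀).obj P) :=
    Hom.isoOfComponents (fun n => (Scheme.Modules.restrictFunctorComp W'.ι V₀.ι).app (P.X n))
      fun s t _ => ((Scheme.Modules.restrictFunctorComp W'.ι V₀.ι).hom.naturality (P.d s t)).symm
  refine good_of_ext j hP (G := E')
    (DerPerf.isKFlat_restrictCx W' (DerPerf.isKFlat_of_isStrictlyPerfect ⟨⟨a, b, hab⟩, hfree⟩))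
    ⟨DerPerf.restrictCxIso W' e.symm ≪≫ DerivedCategory.Q.mapIso c.symm⟩ ?_
  have hz : ∀ i, i < a ∨ b < i → IsZero (((eC j).obj E').X i) := fun i hi =>
    (CxOX.extZero j).map_isZero ((Scheme.Modules.restrictFunctor W'.ι).map_isZero (hab i hi))
  refine Stupid.prop_of_bounded ((eC j).obj E') (Good f I j.opensRange) (fun e h => good_of_iso e h)
    (fun _ h => good_of_isZero h) (fun σ h₁ h₃ => good_middle σ h₁ h₃) (fun i hi => hz i (Or.inl hi))
    (fun i hi => hz i (Or.inr hi)) fun i => ?_
  by_cases hi : i ∈ Finset.Icc a b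
  · obtain ⟨n, ⟨d⟩⟩ := hW' i hi
    exact good_of_iso ((sgl i).mapIso ((CxOX.extZero j).mapIso
      (((Scheme.Modules.restrictFunctorIsoPullback W'.ι).app (E.X i)) ≪≫ d).symm)) (good_ext_free j f I i n)
  · refine good_of_isZero ((single _ (ComplexShape.up ℤ) i).map_isZero (hz i ?_))
    simp only [Finset.mem_Icc, not_and, not_le] at hi
    by_cases h : i < a
    · exact Or.inl h
    · exact Or.inr (hi (not_lt.1 h))

/-- **Projection formula** for perfect complexes. -/
theorem nonempty_projFormula_perfect (P : CochainComplex Y.Modules ℤ) (hP : DCoh.IsKFlat P)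
    (hperf : DCoh.IsPerfect (DerivedCategory.Q.obj P)) [DCoh.HasLTensorCx P] [DCoh.HasLTensorCx ((qC f).obj P)]
    (E : DCoh.D X) :
    Nonempty ((DCoh.LTensorCx P).obj ((DCoh.Rpush f).obj E) ≅
      (DCoh.Rpush f).obj ((DCoh.LTensorCx ((qC f).obj P)).obj E)) :=
  nonempty_iso_of_good f E hP P ⟨Iso.refl _⟩ _ ⟨Iso.refl _⟩ fun I _ _ y =>
    exists_good_of_perfect f I hP hperf y

end Groth.Agent.ProjForm
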