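import Groth.Agent.ProjForm.Hom
import Groth.Agent.DQPush.Restrict
import Groth.Agent.DRingKP.KFlat

/-!
Complexes acyclic over an open subset and maps which are quasi-isomorphisms over an open subset.
-/

set_option autoImplicit false
set_option backward.isDefEq.respectTransparency false
set_option backward.isDefEq.respectTransparency.types false
set_option linter.style.haveILetI false
set_option linter.unusedSectionVars false

universe u

open CategoryTheory Limits AlgebraicGeometry HomologicalComplex MonoidalCategory ZeroObject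

attribute [local instance] HasDerivedCategory.standard

namespace Groth.Agent.ProjForm

open Groth.Agent.KFlat

variable {X Y : Scheme.{u}}

lemma isZero_Q_of_acyclic {A : Type*} [Category* A] [Abelian A] [HasDerivedCategory A] {C : CochainComplex A ℤ}
    (h : C.Acyclic) : IsZero (DerivedCategory.Q.obj C) := by
  haveI : QuasiIso (0 : C ⟶ 0) := ⟨fun n => (quasiIsoAt_iff_exactAt _ n (h n)).2
    (acyclic_of_isZero (fun i => (eval A (ComplexShape.up ℤ) i).map_isZero (isZero_zero _)) n)⟩
  exact (DerivedCategory.Q.map_isZero (isZero_zero _)).of_iso (asIso (DerivedCategory.Q.map (0 : C ⟶ 0)))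

/-- cones of maps of K-injective complexes -/
lemma isKInjective_mappingCone {A : Type*} [Category* A] [Abelian A] {K L : CochainComplex A ℤ} (u : K ⟶ L)
    [K.IsKInjective] [L.IsKInjective] : (CochainComplex.mappingCone u).IsKInjective := by
  let P := (HomotopyCategory.subcategoryAcyclic A).rightOrthogonal
  have h := P.ext_of_isTriangulatedClosed₃' _ (HomotopyCategory.mappingCone_triangleh_distinguished u)
    ((CochainComplex.isKInjective_iff_rightOrthogonal K).1 ‹_›) ((CochainComplex.isKInjective_iff_rightOrthogonal L).1 ‹_›)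
  rw [P.isoClosure_eq_self] at h
  exact (CochainComplex.isKInjective_iff_rightOrthogonal _).2 h

/-- the stalk complexes are acyclic over `V` -/
def AcycOn (V : Y.Opens) (C : CochainComplex Y.Modules ℤ) : Prop := ∀ y ∈ V, ((stCx y).obj C).Acyclic

/-- a quasi-isomorphism on stalks over `V` -/
def QisOn (V : Y.Opens) {K L : CochainComplex Y.Modules ℤ} (u : K ⟶ L) : Prop :=
  ∀ y ∈ V, QuasiIso ((stCx y).map u)

/-- the stalk complexes are K-flat over `V` -/
def KFlatOn (V : Y.Opens) (C : CochainComplex Y.Modules ℤ) : Prop :=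
  ∀ y ∈ V, DRing.IsKFlat (Y.presheaf.stalk y) ((stCx y).obj C)

lemma kFlatOn_of_isKFlat (V : Y.Opens) {C : CochainComplex Y.Modules ℤ} (h : DCoh.IsKFlat C) : KFlatOn V C :=
  fun y _ => (isKFlat_iff_stalks C).1 h y

lemma qisOn_of_quasiIso (V : Y.Opens) {K L : CochainComplex Y.Modules ℤ} (u : K ⟶ L) [QuasiIso u] : QisOn V u :=
  fun y _ => HomologicalComplex.quasiIso_map_of_preservesHomology u (DerSch.stalkFunctor Y y)

lemma QisOn.comp {V : Y.Opens} {K L M : CochainComplex Y.Modules ℤ} {u : K ⟶ L} {v : L ⟶ M}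
    (h : QisOn V u) (h' : QisOn V v) : QisOn V (u ≫ v) := fun y hy => by
  haveI := h y hy; haveI := h' y hy
  rw [Functor.map_comp]
  infer_instance

lemma QisOn.of_comp_right {V : Y.Opens} {K L M : CochainComplex Y.Modules ℤ} {u : K ⟶ L} {v : L ⟶ M}
    (h' : QisOn V v) (h : QisOn V (u ≫ v)) : QisOn V u := fun y hy => by
  haveI := h' y hy
  haveI : QuasiIso ((stCx y).map u ≫ (stCx y).map v) := by rw [← Functor.map_comp]; exact h y hy
  exact quasiIso_of_comp_right _ ((stCx y).map v)

lemma QisOn.of_comp_left {V : Y.Opens} {K L M : CochainComplex Y.Modules ℤ} {u : K ⟶ L} {v : L ⟶ M}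
    (h' : QisOn V u) (h : QisOn V (u ≫ v)) : QisOn V v := fun y hy => by
  haveI := h' y hy
  haveI : QuasiIso ((stCx y).map u ≫ (stCx y).map v) := by rw [← Functor.map_comp]; exact h y hy
  exact quasiIso_of_comp_left ((stCx y).map u) _

lemma qisOn_of_acycOn {V : Y.Opens} {K L : CochainComplex Y.Modules ℤ} (u : K ⟶ L) (h : AcycOn V K)
    (h' : AcycOn V L) : QisOn V u := fun y hy =>
  ⟨fun n => (quasiIsoAt_iff_exactAt _ n (h y hy n)).2 (h' y hy n)⟩

/-- quasi-isomorphisms are detected on an open cover -/
lemma quasiIso_of_qisOn {K L : CochainComplex Y.Modules ℤ} (u : K ⟶ L)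
    (h : ∀ y : Y, ∃ V : Y.Opens, y ∈ V ∧ QisOn V u) : QuasiIso u := by
  refine ⟨fun n => ?_⟩
  rw [quasiIsoAt_iff_isIso_homologyMap]
  refine isIso_of_stalks _ fun y => ?_
  obtain ⟨V, hy, hV⟩ := h y
  haveI hV := hV y hy
  let S := (HomologicalComplex.shortComplexFunctor Y.Modules (ComplexShape.up ℤ) n).map u
  have e := ShortComplex.mapHomologyIso_hom_naturality S (DerSch.stalkFunctor Y y)
  haveI h₁ : IsIso (ShortComplex.homologyMap ((DerSch.stalkFunctor Y y).mapShortComplex.map S)) :=
    (quasiIsoAt_iff_isIso_homologyMap _ n).1 (hV.quasiIsoAt n)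
  exact IsIso.of_isIso_fac_left e.symm

/-- tensor products with stalkwise K-flat acyclic complexes -/
theorem acycOn_tens {V : Y.Opens} (A : CochainComplex Y.Modules ℤ) {C : CochainComplex Y.Modules ℤ}
    (hC : KFlatOn V C) (h : AcycOn V C) : AcycOn V ((DCoh.tensorCx.obj A).obj C) := fun y hy => by
  refine acyclic_of_iso (stTotIso y A C) ?_
  exact acyclic_tens_of_acyclic_rflat (B := DRingKP.tB _) (DRingKP.tBraid _)
    (fun F => by
      obtain ⟨K, q, h1, -, h3, -⟩ := DRingKP.exists_kFlat_resolution F
      exact ⟨K, q, (DRingKP.rflat_iff K).2 h1, h3⟩)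
    ((DRingKP.rflat_iff _).2 (hC y hy)) (h y hy) _

variable (f : X ⟶ Y)

/-- stalks of inverse images -/
lemma kFlatOn_acycOn_pull {V : Y.Opens} {C : CochainComplex Y.Modules ℤ} (hC : KFlatOn V C) (h : AcycOn V C) :
    KFlatOn (f ⁻¹ᵁ V) ((qC f).obj C) ∧ AcycOn (f ⁻¹ᵁ V) ((qC f).obj C) := by
  have E : ∀ x : X, (stCx x).obj ((qC f).obj C) ≅
      ((ModuleCat.extendScalars.{u, u, u} (f.stalkMap x).hom).mapHomologicalComplex (ComplexShape.up ℤ)).obj
        ((stCx (f.base x)).obj C) := fun x =>
    HomologicalComplex.Hom.isoOfComponents (fun n => (pullStalkIso f x).app (C.X n))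
      fun i j _ => ((pullStalkIso f x).hom.naturality (C.d i j)).symm
  refine ⟨fun x hx M hM i => ?_, fun x hx => ?_⟩
  · exact (isKFlat_extendScalars (f.stalkMap x).hom (hC _ hx) M hM i).of_iso
      ((HomologicalComplex.homologyFunctor _ _ i).mapIso (tensorIso (Iso.refl M) (E x)))
  · refine acyclic_of_iso (E x).symm ?_
    let φ := (f.stalkMap x).hom
    let K := (stCx (f.base x)).obj C
    let S' := ((ModuleCat.restrictScalars φ).mapHomologicalComplex (ComplexShape.up ℤ)).obj (𝟙_ _)
    have hS : (((ModuleCat.restrictScalars φ).mapHomologicalComplex (ComplexShape.up ℤ)).obj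
        (𝟙_ _ ⊗ ((ModuleCat.extendScalars.{u, u, u} φ).mapHomologicalComplex (ComplexShape.up ℤ)).obj K)).Acyclic :=
      acyclic_of_iso (projTotIso φ (𝟙_ _) K) (acyclic_tens_of_acyclic_rflat (B := DRingKP.tB _) (DRingKP.tBraid _)
        (fun F => by
          obtain ⟨K, q, h1, -, h3, -⟩ := DRingKP.exists_kFlat_resolution F
          exact ⟨K, q, (DRingKP.rflat_iff K).2 h1, h3⟩)
        ((DRingKP.rflat_iff _).2 (hC _ hx)) (h _ hx) S')
    refine acyclic_of_iso (λ_ (((ModuleCat.extendScalars.{u, u, u} φ).mapHomologicalComplex (ComplexShape.up ℤ)).obj K))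
      fun i => ?_
    rw [exactAt_iff]
    exact (ShortComplex.exact_map_iff_of_faithful _ (ModuleCat.restrictScalars φ)).1 ((exactAt_iff _ _).1 (hS i))

/-- the cone of a map which is a quasi-isomorphism over `V` -/
lemma acycOn_cone_iff {V : Y.Opens} {K L : CochainComplex Y.Modules ℤ} (u : K ⟶ L) :
    AcycOn V (CochainComplex.mappingCone u) ↔ QisOn V u := by
  refine forall₂_congr fun y _ => ?_
  let T := DerSch.stalkFunctor Y y
  let e := CochainComplex.mappingCone.mapHomologicalComplexIso u T
  refine ⟨fun h => ?_, fun h => ?_⟩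
  · have h' : (CochainComplex.mappingCone ((stCx y).map u)).Acyclic := acyclic_of_iso e h
    rw [← DerivedCategory.isIso_Q_map_iff_quasiIso]
    exact (Pretriangulated.Triangle.isZero₃_iff_isIso₁ _
      (DerivedCategory.mappingCone_triangle_distinguished ((stCx y).map u))).1
      (isZero_Q_of_acyclic h')
  · haveI := h
    exact acyclic_of_iso e.symm (mappingCone_acyclic ((stCx y).map u))

/-- acyclicity over `V` and restriction to `V` -/
lemma acycOn_iff_restrict {V : Y.Opens} (C : CochainComplex Y.Modules ℤ) :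
    AcycOn V C ↔ (((Scheme.Modules.restrictFunctor V.ι).mapHomologicalComplex (ComplexShape.up ℤ)).obj C).Acyclic := by
  let R := Scheme.Modules.restrictFunctor V.ι
  have key : ∀ (i : ℤ) (y : V), IsZero ((DerSch.stalkFunctor (V : Scheme.{u}) y).obj
      (((R.mapHomologicalComplex (ComplexShape.up ℤ)).obj C).homology i)) ↔
        IsZero (((stCx y.1).obj C).homology i) := by
    intro i y
    let I := (Scheme.Modules.restrictStalkNatIso V.ι y).app (C.homology i)
    let E₁ : ((DerSch.stalkFunctor (V : Scheme.{u}) y).obj (R.obj (C.homology i))) ≃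
        ((DerSch.stalkFunctor Y y.1).obj (C.homology i)) := I.addCommGroupIsoToAddEquiv.toEquiv
    have e₁ : IsZero ((DerSch.stalkFunctor (V : Scheme.{u}) y).obj (R.obj (C.homology i))) ↔
        IsZero ((DerSch.stalkFunctor Y y.1).obj (C.homology i)) := by
      constructor <;> intro h
      · haveI : Subsingleton ((DerSch.stalkFunctor (V : Scheme.{u}) y).obj (R.obj (C.homology i))) :=
          ModuleCat.subsingleton_of_isZero h
        haveI := E₁.symm.subsingleton; exact ModuleCat.isZero_of_subsingleton _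
      · haveI : Subsingleton ((DerSch.stalkFunctor Y y.1).obj (C.homology i)) := ModuleCat.subsingleton_of_isZero h
        haveI := E₁.subsingleton; exact ModuleCat.isZero_of_subsingleton _
    refine Iff.trans ?_ (e₁.trans ?_)
    · exact ((DerSch.stalkFunctor (V : Scheme.{u}) y).mapIso ((C.sc i).mapHomologyIso R)).isZero_iff
    · exact ((C.sc i).mapHomologyIso (DerSch.stalkFunctor Y y.1)).symm.isZero_iff
  constructor
  · intro h i
    rw [exactAt_iff_isZero_homology]
    exact isZero_of_stalks _ fun y => (key i y).2 ((exactAt_iff_isZero_homology _ _).1 (h y.1 y.2 i))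
  · intro h y hy i
    rw [exactAt_iff_isZero_homology]
    exact (key i ⟨y, hy⟩).1 ((DerSch.stalkFunctor (V : Scheme.{u}) ⟨y, hy⟩).map_isZero
      ((exactAt_iff_isZero_homology _ _).1 (h i)))

/-- direct images of K-injective complexes acyclic over the preimage of `V` -/
theorem acycOn_push {V : Y.Opens} (J : CochainComplex X.Modules ℤ) [hJ : J.IsKInjective] (h : AcycOn (f ⁻¹ᵁ V) J) :
    AcycOn V ((pC f).obj J) := by
  rw [acycOn_iff_restrict]
  let W := f ⁻¹ᵁ V
  let J' : CochainComplex (W : Scheme.{u}).Modules ℤ := ((Scheme.Modules.restrictFunctor W.ι).mapHomologicalComplex (ComplexShape.up ℤ)).obj J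
  haveI : J'.IsKInjective := DQPush.isKInjective_restrict W J hJ
  let H := CochainComplex.IsKInjective.homotopyZero (L := J') (𝟙 J') ((acycOn_iff_restrict J).1 h)
  let E : ((Scheme.Modules.restrictFunctor V.ι).mapHomologicalComplex (ComplexShape.up ℤ)).obj ((pC f).obj J) ≅
      ((Scheme.Modules.pushforward (f ∣_ V)).mapHomologicalComplex (ComplexShape.up ℤ)).obj J' :=
    Hom.isoOfComponents (fun n => (RelPCS.pushRestrIso f V).app (J.X n))
      fun i j _ => ((RelPCS.pushRestrIso f V).hom.naturality (J.d i j)).symm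
  refine acyclic_of_iso E.symm fun i => ?_
  rw [exactAt_iff_isZero_homology, IsZero.iff_id_eq_zero, ← homologyMap_id]
  have h1 := ((Scheme.Modules.pushforward (f ∣_ V)).mapHomotopy H).homologyMap_eq i
  rw [CategoryTheory.Functor.map_id, Functor.map_zero, homologyMap_zero] at h1
  exact h1

/-- direct images of K-injective complexes and quasi-isomorphisms over the preimage of `V` -/
theorem qisOn_push {V : Y.Opens} {J J' : CochainComplex X.Modules ℤ} [J.IsKInjective] [J'.IsKInjective] (j : J ⟶ J')
    (h : QisOn (f ⁻¹ᵁ V) j) : QisOn V ((pC f).map j) := by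
  haveI : (CochainComplex.mappingCone j).IsKInjective := isKInjective_mappingCone j
  rw [← acycOn_cone_iff]
  intro y hy
  exact acyclic_of_iso ((stCx y).mapIso (CochainComplex.mappingCone.mapHomologicalComplexIso j (Scheme.Modules.pushforward f)))
    (acycOn_push f _ ((acycOn_cone_iff j).2 h) y hy)

end Groth.Agent.ProjForm
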