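import Groth.Agent.ProjForm.Colim
import Groth.Agent.DQCoh.TensorUnit
import Groth.Agent.KFlat.Pullback
import Mathlib.CategoryTheory.Limits.Constructions.Filtered

/-!
The projection formula for a free module placed in one degree.
-/

set_option autoImplicit false
set_option backward.isDefEq.respectTransparency false
set_option backward.isDefEq.respectTransparency.types false
set_option linter.style.haveILetI false
set_option linter.unusedSectionVars false

universe u

open CategoryTheory Limits AlgebraicGeometry HomologicalComplex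

attribute [local instance] HasDerivedCategory.standard

namespace Groth.Agent.ProjForm

open Groth.Agent.KFlat

variable {X Y : Scheme.{u}} (f : X ⟶ Y) (I : CochainComplex X.Modules ℤ) (V : Y.Opens)

/-- the structure module in degree `k` -/
noncomputable abbrev sgl (k : ℤ) : Y.Modules ⥤ CochainComplex Y.Modules ℤ :=
  HomologicalComplex.single Y.Modules (ComplexShape.up ℤ) k

/-- `I ⊗ f^*(O[-k]) = I[-k]` -/
noncomputable def rhsUnitIso (k : ℤ) :
    (rhsF f I).obj ((sgl k).obj (Coh.structureModule Y)) ≅ I⟦(-k : ℤ)⟧ :=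
  (DCoh.tensorCx.obj I).mapIso
    ((HomologicalComplex.singleMapHomologicalComplex (Scheme.Modules.pullback f) (ComplexShape.up ℤ) k).app _ ≪≫
      (HomologicalComplex.single X.Modules (ComplexShape.up ℤ) k).mapIso (DerPerf.pullUnitIso f) ≪≫
      (((CochainComplex.singleFunctors X.Modules).shiftIso (-k) k 0 (by lia)).app (Coh.structureModule X)).symm) ≪≫
    CochainComplex.mapBifunctorShift₂Iso I _ (schB X) (-k) ≪≫
    (shiftFunctor (CochainComplex X.Modules ℤ) (-k)).mapIso
      ((tensSingleIso (schB X) I (Coh.structureModule X)).symm ≪≫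
        (NatIso.mapHomologicalComplex (DQCoh.tensUnitNat X) (ComplexShape.up ℤ)).app I ≪≫
        (Functor.mapHomologicalComplexIdIso X.Modules (ComplexShape.up ℤ)).app I)

lemma isKInjective_rhs_unit [I.IsKInjective] (k : ℤ) :
    ((rhsF f I).obj ((sgl k).obj (Coh.structureModule Y))).IsKInjective :=
  CochainComplex.isKInjective_of_iso (rhsUnitIso f I k).symm

theorem good_unit [DCoh.HasRpush f] [I.IsKInjective] (k : ℤ) :
    Good f I V ((sgl k).obj (Coh.structureModule Y)) := by
  haveI := isKInjective_rhs_unit f I k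
  haveI h : IsIso ((theta f I).app ((sgl k).obj (Coh.structureModule Y))) :=
    isIso_theta_single f I k (Coh.structureModule Y) (isIso_projHom_unit f)
  haveI : QuasiIso ((theta f I).app ((sgl k).obj (Coh.structureModule Y)) ≫ (pC f).map (𝟙 _)) :=
    quasiIso_comp _ _
  exact (good_iff (𝟙 _)).2 (qisOn_of_quasiIso V _)

theorem qc_unit (hI : ∀ i, Coh.IsQCoh ((rV (f ⁻¹ᵁ V)).obj (I.homology i))) (k : ℤ) :
    Qc f I V ((sgl k).obj (Coh.structureModule Y)) := fun i =>
  QC.isQCoh_of_iso ((rV (f ⁻¹ᵁ V)).mapIso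
    ((homologyFunctor X.Modules (ComplexShape.up ℤ) i).mapIso (rhsUnitIso f I k) ≪≫
      DQCoh.shiftHIso I (-k) i (-k + i) rfl).symm) (hI _)

/-- a property of complexes, on modules in degree `k` -/
lemma prop_single_coprod (Q : CochainComplex Y.Modules ℤ → Prop)
    (hiso : ∀ {P P'}, (P ≅ P') → Q P → Q P') (hzero : ∀ P, IsZero P → Q P)
    (hmid : ∀ {S : ShortComplex (CochainComplex Y.Modules ℤ)},
      (∀ n, (S.map (eval Y.Modules (ComplexShape.up ℤ) n)).Splitting) → Q S.X₁ → Q S.X₃ → Q S.X₂)
    (k : ℤ) {α : Type u} [Finite α] (N : α → Y.Modules) (h : ∀ a, Q ((sgl k).obj (N a))) :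
    Q ((sgl k).obj (∐ N)) := by
  let P : ObjectProperty Y.Modules := fun M => Q ((sgl k).obj M)
  haveI : P.IsClosedUnderIsomorphisms := ⟨fun e hM => hiso ((sgl k).mapIso e) hM⟩
  haveI : P.IsClosedUnderColimitsOfShape (Discrete.{0} PEmpty) := ⟨fun M ⟨p⟩ =>
    hzero _ ((sgl k).map_isZero ((IsZero.iff_id_eq_zero M).2 (p.isColimit.hom_ext fun ⟨j⟩ => j.elim)))⟩
  haveI : P.IsClosedUnderBinaryCoproducts := ⟨fun M ⟨p⟩ => by
    have h₁ := p.prop_diag_obj ⟨.left⟩
    have h₂ := p.prop_diag_obj ⟨.right⟩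
    let A := p.diag.obj ⟨.left⟩
    let B := p.diag.obj ⟨.right⟩
    let e : A ⊞ B ≅ M := (biprod.isoCoprod A B) ≪≫
      (coprodIsCoprod A B).coconePointsIsoOfNatIso p.isColimit (diagramIsoPair p.diag).symm
    refine P.prop_of_iso e (?_ : Q ((sgl k).obj (A ⊞ B)))
    let s : (ShortComplex.mk (biprod.inl : A ⟶ A ⊞ B) biprod.snd (by simp)).Splitting :=
      ⟨biprod.fst, biprod.inr, by simp, by simp, biprod.total⟩
    exact hmid (S := (ShortComplex.mk (biprod.inl : A ⟶ A ⊞ B) biprod.snd (by simp)).map (sgl k))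
      (fun n => (s.map (sgl k)).map (eval Y.Modules (ComplexShape.up ℤ) n)) h₁ h₂⟩
  haveI : P.IsClosedUnderFiniteCoproducts := ObjectProperty.IsClosedUnderFiniteCoproducts.mk'
  exact P.prop_colimit (Discrete.functor N) fun a => h a.as

variable [DCoh.HasRpush f]

/-- `Good` and quasi-coherence -/
def QGood (P : CochainComplex Y.Modules ℤ) : Prop := Good f I V P ∧ Qc f I V P

/-- free modules in one degree -/
theorem qGood_free [QuasiCompact f] [QuasiSeparated f] [I.IsKInjective]
    (hI : ∀ i, Coh.IsQCoh ((rV (f ⁻¹ᵁ V)).obj (I.homology i))) (k : ℤ) (α : Type u) :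
    QGood f I V ((sgl k).obj (∐ fun _ : α => Coh.structureModule Y)) := by
  have hfin : ∀ (β : Type u) [Finite β], Good f I V ((sgl k).obj (∐ fun _ : β => Coh.structureModule Y)) ∧
      Qc f I V ((sgl k).obj (∐ fun _ : β => Coh.structureModule Y)) := fun β _ =>
    prop_single_coprod (fun P => Good f I V P ∧ Qc f I V P) (fun e h => ⟨good_of_iso e h.1, qc_of_iso e h.2⟩)
      (fun _ h => ⟨good_of_isZero h, qc_of_isZero h⟩)
      (fun σ h₁ h₃ => ⟨good_middle σ h₁.1 h₃.1, qc_middle σ h₁.2 h₃.2⟩) k _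
      fun _ => ⟨good_unit f I V k, qc_unit f I V hI k⟩
  let c := CoproductsFromFiniteFiltered.finiteSubcoproductsCocone (fun _ : α => Coh.structureModule Y)
  have hc : IsColimit ((sgl k).mapCocone c) := isColimitOfPreserves (sgl k)
    (CoproductsFromFiniteFiltered.isColimitFiniteSubproductsCocone (fun _ : α => Coh.structureModule Y))
  let D := CoproductsFromFiniteFiltered.liftToFinsetObj (Discrete.functor fun _ : α => Coh.structureModule Y) ⋙ sgl k
  have hD : ∀ S, Good f I V (D.obj S) ∧ Qc f I V (D.obj S) := fun S => hfin {x // x ∈ S}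
  exact ⟨good_colimit (D := D) (c := (sgl k).mapCocone c) hc (fun S => (hD S).1) (fun S => (hD S).2),
    qc_colimit (D := D) (c := (sgl k).mapCocone c) hc fun S => (hD S).2⟩

end Groth.Agent.ProjForm
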