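import Mathlib.Algebra.Homology.HomologicalComplexLimits
import Mathlib.Algebra.Homology.ShortComplex.Exact
import Mathlib.Algebra.Homology.Additive
import Mathlib.CategoryTheory.Category.Preorder
import Mathlib.CategoryTheory.Filtered.Basic
import Mathlib.CategoryTheory.Category.ULift
import Mathlib.CategoryTheory.Abelian.Basic

/-!
Stupid truncations `C^{≥ m}` of a cochain complex and the induction they give.
-/

set_option autoImplicit false
set_option backward.isDefEq.respectTransparency false
set_option backward.isDefEq.respectTransparency.types false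
set_option linter.unusedSectionVars false

universe u w v

open CategoryTheory Limits HomologicalComplex ZeroObject

namespace Groth.Agent.ProjForm.Stupid

variable {A : Type w} [Category.{v} A] [Abelian A] (C : CochainComplex A ℤ)

/-- the terms -/
noncomputable def Xσ (m i : ℤ) : A := if m ≤ i then C.X i else 0

/-- the inclusion -/
noncomputable def inc (m i : ℤ) : Xσ C m i ⟶ C.X i := if h : m ≤ i then eqToHom (if_pos h) else 0

/-- the projection -/
noncomputable def pr (m i : ℤ) : C.X i ⟶ Xσ C m i := if h : m ≤ i then eqToHom (if_pos h).symm else 0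

lemma pr_inc {m i : ℤ} (h : m ≤ i) : pr C m i ≫ inc C m i = 𝟙 _ := by simp [pr, inc, h]

lemma inc_pr (m i : ℤ) : inc C m i ≫ pr C m i = 𝟙 _ := by
  by_cases h : m ≤ i
  · simp [pr, inc, h]
  · exact (by rw [Xσ, if_neg h]; exact isZero_zero A : IsZero (Xσ C m i)).eq_of_src _ _

lemma inc_of_lt {m i : ℤ} (h : i < m) : inc C m i = 0 := dif_neg (by omega)

lemma isZero_Xσ {m i : ℤ} (h : i < m) : IsZero (Xσ C m i) := by
  rw [Xσ, if_neg (by omega)]; exact isZero_zero A

lemma inc_d (m i j : ℤ) : inc C m i ≫ C.d i j ≫ pr C m j ≫ inc C m j = inc C m i ≫ C.d i j := by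
  by_cases h : m ≤ i
  · by_cases hij : i + 1 = j
    · rw [pr_inc C (by omega), Category.comp_id]
    · simp [C.shape i j hij]
  · simp [inc_of_lt C (show i < m by omega)]

/-- the truncation -/
noncomputable def σ (m : ℤ) : CochainComplex A ℤ where
  X := Xσ C m
  d i j := inc C m i ≫ C.d i j ≫ pr C m j
  shape i j h := by simp [C.shape i j h]
  d_comp_d' i j k _ _ := by
    have h := inc_d C m i j
    simp only [Category.assoc]
    rw [reassoc_of% h, C.d_comp_d_assoc, zero_comp, comp_zero]

/-- the inclusion of a truncation -/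
noncomputable def ι (m : ℤ) : σ C m ⟶ C where
  f i := inc C m i
  comm' i j _ := by
    change inc C m i ≫ C.d i j = (inc C m i ≫ C.d i j ≫ pr C m j) ≫ inc C m j
    rw [Category.assoc, Category.assoc, inc_d]

/-- the inclusion of truncations -/
noncomputable def step (m m' : ℤ) (h : m' ≤ m) : σ C m ⟶ σ C m' where
  f i := inc C m i ≫ pr C m' i
  comm' i j _ := by
    change (inc C m i ≫ pr C m' i) ≫ inc C m' i ≫ C.d i j ≫ pr C m' j =
      (inc C m i ≫ C.d i j ≫ pr C m j) ≫ inc C m j ≫ pr C m' j
    simp only [Category.assoc]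
    by_cases hi : m ≤ i
    · rw [reassoc_of% (pr_inc C (show m' ≤ i by omega)), reassoc_of% (inc_d C m i j)]
    · simp [inc_of_lt C (show i < m by omega)]

lemma step_f (m m' : ℤ) (h : m' ≤ m) (i : ℤ) : (step C m m' h).f i = inc C m i ≫ pr C m' i := rfl

lemma step_inc (m m' : ℤ) (h : m' ≤ m) (i : ℤ) : inc C m i ≫ pr C m' i ≫ inc C m' i = inc C m i := by
  by_cases hi : m ≤ i
  · rw [pr_inc C (show m' ≤ i by omega), Category.comp_id]
  · simp [inc_of_lt C (show i < m by omega)]

lemma isZero_σ {b m : ℤ} (hb : ∀ i, b < i → IsZero (C.X i)) (hm : b < m) : IsZero (σ C m) := by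
  rw [IsZero.iff_id_eq_zero]
  ext i
  refine IsZero.eq_of_src ?_ _ _
  by_cases hi : m ≤ i
  · exact (hb i (by omega)).of_iso (eqToIso (if_pos hi : Xσ C m i = C.X i))
  · exact isZero_Xσ C (by omega)

variable (Q : CochainComplex A ℤ → Prop)

theorem prop_σ_step (hmid : ∀ {S : ShortComplex (CochainComplex A ℤ)},
      (∀ n, (S.map (eval A (ComplexShape.up ℤ) n)).Splitting) → Q S.X₁ → Q S.X₃ → Q S.X₂)
    (m : ℤ) (h₁ : Q (σ C (m + 1))) (h₃ : Q ((single A (ComplexShape.up ℤ) m).obj (C.X m))) : Q (σ C m) := by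
  let p : σ C m ⟶ (single A (ComplexShape.up ℤ) m).obj (C.X m) := mkHomToSingle (inc C m m) (fun i hi => by
    exact (isZero_Xσ C (show i < m by change i + 1 = m at hi; omega)).eq_of_src _ _)
  let S : ShortComplex (CochainComplex A ℤ) := ShortComplex.mk (step C (m + 1) m (by omega)) p (by
    refine HomologicalComplex.to_single_hom_ext ?_
    exact (isZero_Xσ C (show m < m + 1 by omega)).eq_of_src _ _)
  refine hmid (S := S) (fun n => ?_) h₁ h₃
  by_cases hn : n = m
  · subst hn
    exact
      { r := 0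
        s := (singleObjXSelf (ComplexShape.up ℤ) n (C.X n)).hom ≫ pr C n n
        f_r := (isZero_Xσ C (show n < n + 1 by omega)).eq_of_src _ _
        s_g := by
          change ((singleObjXSelf _ n (C.X n)).hom ≫ pr C n n) ≫ p.f n = 𝟙 _
          rw [mkHomToSingle_f, Category.assoc, reassoc_of% (pr_inc C (le_refl n)), Iso.hom_inv_id]
        id := by
          have h : p.f n ≫ (singleObjXSelf (ComplexShape.up ℤ) n (C.X n)).hom ≫ pr C n n = 𝟙 (Xσ C n n) := by
            rw [mkHomToSingle_f, Category.assoc, Iso.inv_hom_id_assoc]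
            exact inc_pr C n n
          rw [zero_comp, zero_add]
          exact h }
  · have hz : IsZero (((single A (ComplexShape.up ℤ) m).obj (C.X m)).X n) := isZero_single_obj_X _ _ _ _ hn
    exact
      { r := inc C m n ≫ pr C (m + 1) n
        s := 0
        f_r := by
          change (inc C (m + 1) n ≫ pr C m n) ≫ inc C m n ≫ pr C (m + 1) n = 𝟙 _
          rw [Category.assoc, reassoc_of% (step_inc C (m + 1) m (by omega) n), inc_pr]
        s_g := hz.eq_of_src _ _
        id := by
          have h : (inc C m n ≫ pr C (m + 1) n) ≫ (inc C (m + 1) n ≫ pr C m n) = 𝟙 (Xσ C m n) := by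
            rw [Category.assoc]
            by_cases h : m ≤ n
            · rw [reassoc_of% (pr_inc C (show m + 1 ≤ n by omega)), inc_pr]
            · exact (isZero_Xσ C (show n < m by omega)).eq_of_src _ _
          rw [comp_zero, add_zero]
          exact h }

theorem prop_σ (hzero : ∀ P, IsZero P → Q P) (hmid : ∀ {S : ShortComplex (CochainComplex A ℤ)},
      (∀ n, (S.map (eval A (ComplexShape.up ℤ) n)).Splitting) → Q S.X₁ → Q S.X₃ → Q S.X₂)
    {b : ℤ} (hb : ∀ i, b < i → IsZero (C.X i))
    (h : ∀ i, Q ((single A (ComplexShape.up ℤ) i).obj (C.X i))) (k : ℕ) : Q (σ C (b + 1 - k)) := by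
  induction k with
  | zero => exact hzero _ (isZero_σ C hb (by simp))
  | succ k ih =>
    refine prop_σ_step C Q hmid _ ?_ (h _)
    rwa [show b + 1 - ((k + 1 : ℕ) : ℤ) + 1 = b + 1 - (k : ℤ) by omega]

/-- the increasing sequence of truncations -/
noncomputable def diag (b : ℤ) : AsSmall.{u} ℕ ⥤ CochainComplex A ℤ :=
  AsSmall.down ⋙
    { obj := fun k => σ C (b + 1 - (k : ℕ))
      map := fun {k l} g => step C _ _ (by have := leOfHom g; omega)
      map_id := fun k => by ext i; exact inc_pr C _ i
      map_comp := fun {k l o} g g' => by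
        ext i
        have := leOfHom g
        rw [HomologicalComplex.comp_f, step_f, step_f, step_f, Category.assoc,
          reassoc_of% (step_inc C (b + 1 - (k : ℤ)) (b + 1 - (l : ℤ)) (by omega) i)] }

/-- the cocone of all truncations -/
noncomputable def cocone (b : ℤ) : Cocone (diag.{u} C b) where
  pt := C
  ι :=
    { app := fun k => ι C _
      naturality := fun k l g => by
        ext i
        have h : AsSmall.down.obj k ≤ AsSmall.down.obj l := leOfHom (AsSmall.down.map g)
        change (inc C _ i ≫ pr C _ i) ≫ inc C _ i = inc C _ i ≫ 𝟙 _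
        rw [Category.assoc, Category.comp_id, step_inc C (b + 1 - ((AsSmall.down.obj k : ℕ) : ℤ))
          (b + 1 - ((AsSmall.down.obj l : ℕ) : ℤ)) (by omega) i] }

/-- a complex is the colimit of its truncations -/
noncomputable def isColimitCocone (b : ℤ) : IsColimit (cocone.{u} C b) := by
  refine isColimitOfEval _ _ fun i => ?_
  let n : ℕ := (b + 1 - i).toNat
  let K : AsSmall.{u} ℕ := AsSmall.up.obj n
  have hK : b + 1 - (n : ℤ) ≤ i := by omega
  refine
    { desc := fun s => pr C (b + 1 - (n : ℤ)) i ≫ s.ι.app K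
      fac := fun s k => ?_
      uniq := fun s d hd => ?_ }
  · change inc C (b + 1 - ((AsSmall.down.obj k : ℕ) : ℤ)) i ≫ pr C (b + 1 - (n : ℤ)) i ≫ s.ι.app K = s.ι.app k
    by_cases hk : b + 1 - ((AsSmall.down.obj k : ℕ) : ℤ) ≤ i
    · rcases le_total (AsSmall.down.obj k) n with h | h
      · exact (Category.assoc _ _ _).symm.trans (s.w (AsSmall.up.map (homOfLE h) : k ⟶ K))
      · refine Eq.trans (congrArg (fun t => inc C _ i ≫ pr C _ i ≫ t)
          (s.w (AsSmall.up.map (homOfLE h) : K ⟶ k)).symm) ?_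
        change inc C _ i ≫ pr C _ i ≫ (inc C (b + 1 - (n : ℤ)) i ≫ pr C (b + 1 - ((AsSmall.down.obj k : ℕ) : ℤ)) i) ≫ s.ι.app k = _
        rw [Category.assoc, reassoc_of% (pr_inc C hK), reassoc_of% (inc_pr C _ i)]
    · exact (isZero_Xσ C (m := b + 1 - ((AsSmall.down.obj k : ℕ) : ℤ)) (show i < _ by omega)).eq_of_src _ _
  · change d = pr C _ i ≫ s.ι.app K
    rw [← hd K]
    change d = pr C (b + 1 - (n : ℤ)) i ≫ inc C (b + 1 - (n : ℤ)) i ≫ d
    rw [reassoc_of% (pr_inc C hK)]

/-- induction along stupid truncations -/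
theorem prop_of_boundedAbove (hzero : ∀ P, IsZero P → Q P) (hmid : ∀ {S : ShortComplex (CochainComplex A ℤ)},
      (∀ n, (S.map (eval A (ComplexShape.up ℤ) n)).Splitting) → Q S.X₁ → Q S.X₃ → Q S.X₂)
    (hcolim : ∀ (J : Type u) [SmallCategory J] [IsFiltered J] (D : J ⥤ CochainComplex A ℤ) (c : Cocone D),
      IsColimit c → (∀ j, Q (D.obj j)) → Q c.pt)
    {b : ℤ} (hb : ∀ i, b < i → IsZero (C.X i))
    (h : ∀ i, Q ((single A (ComplexShape.up ℤ) i).obj (C.X i))) : Q C := by
  have : IsFiltered (AsSmall.{u} ℕ) := IsFiltered.of_equivalence (AsSmall.equiv (C := ℕ))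
  exact hcolim _ (diag.{u} C b) (cocone.{u} C b) (isColimitCocone C b) fun k => prop_σ C Q hzero hmid hb h _

/-- induction along the degrees of a bounded complex -/
theorem prop_of_bounded (hiso : ∀ {P P'}, (P ≅ P') → Q P → Q P') (hzero : ∀ P, IsZero P → Q P)
    (hmid : ∀ {S : ShortComplex (CochainComplex A ℤ)},
      (∀ n, (S.map (eval A (ComplexShape.up ℤ) n)).Splitting) → Q S.X₁ → Q S.X₃ → Q S.X₂)
    {a b : ℤ} (ha : ∀ i, i < a → IsZero (C.X i)) (hb : ∀ i, b < i → IsZero (C.X i))
    (h : ∀ i, Q ((single A (ComplexShape.up ℤ) i).obj (C.X i))) : Q C := by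
  let m := b + 1 - ((b + 1 - a).toNat : ℤ)
  haveI : ∀ i, IsIso ((ι C m).f i) := fun i => ⟨pr C m i, inc_pr C m i, by
    by_cases hi : m ≤ i
    · exact pr_inc C hi
    · exact (ha i (by omega)).eq_of_src _ _⟩
  haveI : IsIso (ι C m) := HomologicalComplex.Hom.isIso_of_components _
  exact hiso (asIso (ι C m)) (prop_σ C Q hzero hmid hb h _)

end Groth.Agent.ProjForm.Stupid
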