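import Groth.Agent.ProjForm.Local
import Groth.Agent.DQPush.FilColim
import Groth.Agent.DQCoh.Tensor
import Groth.Agent.DQCoh.TensorUnit

/-!
Complexes on the base for which the projection formula holds over an open subset.
-/

set_option autoImplicit false
set_option backward.isDefEq.respectTransparency false
set_option backward.isDefEq.respectTransparency.types false
set_option linter.style.haveILetI false
set_option linter.unusedSectionVars false

universe u

open CategoryTheory Limits AlgebraicGeometry HomologicalComplex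

attribute [local instance] HasDerivedCategory.standard

namespace Groth.Agent.ProjForm

open Groth.Agent.KFlat

variable {X Y : Scheme.{u}}

/-- restriction to `V` -/
noncomputable abbrev rV (V : Y.Opens) : Y.Modules ⥤ (V : Scheme.{u}).Modules :=
  Scheme.Modules.restrictFunctor V.ι

/-- isomorphisms over `V` are detected on stalks -/
lemma isIso_restrict_iff (V : Y.Opens) {M N : Y.Modules} (φ : M ⟶ N) :
    IsIso ((rV V).map φ) ↔ ∀ y ∈ V, IsIso ((DerSch.stalkFunctor Y y).map φ) := by
  have key : ∀ z : V, IsIso ((DerSch.stalkFunctor (V : Scheme.{u}) z).map ((rV V).map φ)) ↔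
      IsIso ((DerSch.stalkFunctor Y z.1).map φ) := fun z => by
    have h := NatIso.isIso_map_iff (Scheme.Modules.restrictStalkNatIso V.ι z) φ
    rw [ConcreteCategory.isIso_iff_bijective, ConcreteCategory.isIso_iff_bijective] at h ⊢
    exact h
  constructor
  · intro h y hy
    exact (key ⟨y, hy⟩).1 inferInstance
  · intro h
    exact isIso_of_stalks _ fun z => (key z).2 (h z.1 z.2)

lemma qisOn_iff_restrict (V : Y.Opens) {K L : CochainComplex Y.Modules ℤ} (u : K ⟶ L) :
    QisOn V u ↔ ∀ i, IsIso ((rV V).map (homologyMap u i)) := by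
  have key : ∀ (y : Y) (i : ℤ), QuasiIsoAt ((stCx y).map u) i ↔
      IsIso ((DerSch.stalkFunctor Y y).map (homologyMap u i)) := fun y i => by
    rw [quasiIsoAt_iff_isIso_homologyMap]
    have e := ShortComplex.mapHomologyIso_hom_naturality
      ((HomologicalComplex.shortComplexFunctor Y.Modules (ComplexShape.up ℤ) i).map u) (DerSch.stalkFunctor Y y)
    constructor <;> intro h
    · haveI : IsIso (ShortComplex.homologyMap ((DerSch.stalkFunctor Y y).mapShortComplex.map
          ((HomologicalComplex.shortComplexFunctor Y.Modules (ComplexShape.up ℤ) i).map u))) := h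
      exact IsIso.of_isIso_fac_left e.symm
    · haveI : IsIso ((DerSch.stalkFunctor Y y).map (ShortComplex.homologyMap
          ((HomologicalComplex.shortComplexFunctor Y.Modules (ComplexShape.up ℤ) i).map u))) := h
      exact IsIso.of_isIso_fac_right e
  simp only [isIso_restrict_iff]
  exact ⟨fun h i y hy => (key y i).1 ((h y hy).quasiIsoAt i),
    fun h y hy => ⟨fun i => (key y i).2 (h i y hy)⟩⟩

variable (f : X ⟶ Y) [DCoh.HasRpush f]

/-- `H^i f_* ⟶ H^i Rf_*` -/
noncomputable def tau (i : ℤ) :
    pC f ⋙ HomologicalComplex.homologyFunctor Y.Modules (ComplexShape.up ℤ) i ⟶ DQPush.rpushH f i :=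
  Functor.whiskerLeft (pC f) (DerivedCategory.homologyFunctorFactors Y.Modules i).inv ≫
    (Functor.associator _ _ _).inv ≫
      Functor.whiskerRight (DQPush.unitQ f) (DerivedCategory.homologyFunctor Y.Modules i)

lemma isIso_tau_app (i : ℤ) (J : CochainComplex X.Modules ℤ) [J.IsKInjective] : IsIso ((tau f i).app J) := by
  haveI := DerPush.isIso_rpushUnit_app f
    (I := (HomotopyCategory.quotient X.Modules (ComplexShape.up ℤ)).obj J) ‹_›
  haveI : IsIso ((DQPush.unitQ f).app J) := by
    dsimp [DQPush.unitQ, AcycDef.unitQ]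
    infer_instance
  dsimp [tau]
  infer_instance

variable (I : CochainComplex X.Modules ℤ)

/-- `H^i(f_*I ⊗ P) ⟶ H^i Rf_*(I ⊗ f^*P)` -/
noncomputable def eta (i : ℤ) :
    lhsF f I ⋙ HomologicalComplex.homologyFunctor Y.Modules (ComplexShape.up ℤ) i ⟶
      rhsF f I ⋙ DQPush.rpushH f i :=
  Functor.whiskerRight (theta f I) _ ≫ (Functor.associator _ _ _).hom ≫ Functor.whiskerLeft (rhsF f I) (tau f i)

/-- the projection formula holds for `P` over `V` -/
def Good (V : Y.Opens) (P : CochainComplex Y.Modules ℤ) : Prop := ∀ i, IsIso ((rV V).map ((eta f I i).app P))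

variable {f I}

lemma eta_app (i : ℤ) (P : CochainComplex Y.Modules ℤ) :
    (eta f I i).app P = homologyMap ((theta f I).app P) i ≫ (tau f i).app ((rhsF f I).obj P) := by
  simp only [eta, NatTrans.comp_app, Functor.whiskerRight_app, Functor.whiskerLeft_app,
    Functor.associator_hom_app]
  erw [Category.id_comp]
  rfl

/-- `Good` on a resolution -/
theorem good_iff {V : Y.Opens} {P : CochainComplex Y.Modules ℤ} {J : CochainComplex X.Modules ℤ} [J.IsKInjective]
    (s : (rhsF f I).obj P ⟶ J) [QuasiIso s] :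
    Good f I V P ↔ QisOn V ((theta f I).app P ≫ (pC f).map s) := by
  rw [qisOn_iff_restrict]
  refine forall_congr' fun i => ?_
  haveI := isIso_tau_app f i J
  haveI : IsIso ((DQPush.rpushH f i).map s) :=
    (inferInstance : IsIso ((DerivedCategory.homologyFunctor Y.Modules i).map ((DCoh.Rpush f).map (DerivedCategory.Q.map s))))
  have h : (eta f I i).app P ≫ (DQPush.rpushH f i).map s =
      homologyMap ((theta f I).app P ≫ (pC f).map s) i ≫ (tau f i).app J := by
    rw [eta_app, homologyMap_comp, Category.assoc, Category.assoc]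
    exact congrArg (homologyMap ((theta f I).app P) i ≫ ·) ((tau f i).naturality s).symm
  have h' := congrArg (rV V).map h
  rw [Functor.map_comp, Functor.map_comp] at h'
  constructor <;> intro hi
  · haveI := hi
    haveI : IsIso ((rV V).map (homologyMap ((theta f I).app P ≫ (pC f).map s) i) ≫ (rV V).map ((tau f i).app J)) := by
      rw [← h']; infer_instance
    exact IsIso.of_isIso_comp_right _ ((rV V).map ((tau f i).app J))
  · haveI := hi
    haveI : IsIso ((rV V).map ((eta f I i).app P) ≫ (rV V).map ((DQPush.rpushH f i).map s)) := by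
      rw [h']; infer_instance
    exact IsIso.of_isIso_comp_right _ ((rV V).map ((DQPush.rpushH f i).map s))

lemma theta_comp {P P' : CochainComplex Y.Modules ℤ} (u : P ⟶ P') {J J' : CochainComplex X.Modules ℤ}
    (s : (rhsF f I).obj P ⟶ J) (s' : (rhsF f I).obj P' ⟶ J') (k : J ⟶ J') (h : (rhsF f I).map u ≫ s' = s ≫ k) :
    ((theta f I).app P ≫ (pC f).map s) ≫ (pC f).map k = (lhsF f I).map u ≫ (theta f I).app P' ≫ (pC f).map s' := by
  rw [← Category.assoc ((lhsF f I).map u), (theta f I).naturality u, Category.assoc, Category.assoc, Functor.comp_map,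
    ← (pC f).map_comp, ← (pC f).map_comp, h]

omit [DCoh.HasRpush f] in
/-- `I ⊗ f^*` and quasi-isomorphisms over `V` -/
lemma qisOn_rhs {V : Y.Opens} {P P' : CochainComplex Y.Modules ℤ} (u : P ⟶ P') (hu : QisOn V u)
    (hP : KFlatOn V (CochainComplex.mappingCone u)) : QisOn (f ⁻¹ᵁ V) ((rhsF f I).map u) :=
  have hC : AcycOn V (CochainComplex.mappingCone u) := (acycOn_cone_iff u).2 hu
  fun x hx =>
    quasiIso_map_of_acyclic_cone u (rhsF f I ⋙ stCx x)
      (fun S σ => (shortExact_of_splitting fun n =>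
        (splittingObj (schB X) I (S.map (qC f)) (fun m => (σ m).map (Scheme.Modules.pullback f)) n).map
          (DerSch.stalkFunctor X x)))
      (fun h i => (((DerSch.stalkFunctor X x).mapHomotopy
        (homotopyObj (schB X) I ((Scheme.Modules.pullback f).mapHomotopy h)))).homologyMap_eq i)
      (acycOn_tens I (kFlatOn_acycOn_pull f hP hC).1 (kFlatOn_acycOn_pull f hP hC).2 x hx)

/-- invariance under maps which are quasi-isomorphisms over `V` -/
theorem good_iff_of_qisOn {V : Y.Opens} {P P' : CochainComplex Y.Modules ℤ} (u : P ⟶ P') (hu : QisOn V u)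
    (hP : KFlatOn V (CochainComplex.mappingCone u)) : Good f I V P ↔ Good f I V P' := by
  have hC : AcycOn V (CochainComplex.mappingCone u) := (acycOn_cone_iff u).2 hu
  -- the left hand side
  have hl : QisOn V ((lhsF f I).map u) := fun y hy =>
    quasiIso_map_of_acyclic_cone u (lhsF f I ⋙ stCx y)
      (fun S σ => (shortExact_of_splitting fun n =>
        (splittingObj (schB Y) ((pC f).obj I) S σ n).map (DerSch.stalkFunctor Y y)))
      (fun h i => (((DerSch.stalkFunctor Y y).mapHomotopy (homotopyObj (schB Y) ((pC f).obj I) h))).homologyMap_eq i)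
      (acycOn_tens ((pC f).obj I) hP hC y hy)
  -- the right hand side
  have hr : QisOn (f ⁻¹ᵁ V) ((rhsF f I).map u) := qisOn_rhs u hu hP
  obtain ⟨J, s, hJ, hs⟩ := DerPush.exists_kInj_sch ((rhsF f I).obj P)
  obtain ⟨J', s', hJ', hs'⟩ := DerPush.exists_kInj_sch ((rhsF f I).obj P')
  obtain ⟨k, hk⟩ := KInj.Q_map_surjective (K := J) (I := J')
    (inv (DerivedCategory.Q.map s) ≫ DerivedCategory.Q.map ((rhsF f I).map u ≫ s'))
  have hk' : DerivedCategory.Q.map (s ≫ k) = DerivedCategory.Q.map ((rhsF f I).map u ≫ s') := by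
    rw [Functor.map_comp, hk, IsIso.hom_inv_id_assoc]
  obtain ⟨H⟩ := KInj.nonempty_homotopy_of_Q_map_eq hk'
  let H' : Homotopy (s ≫ k) ((rhsF f I).map u ≫ s') := Homotopy.equivSubZero.symm H
  have hkq : QisOn (f ⁻¹ᵁ V) k := by
    refine QisOn.of_comp_left (qisOn_of_quasiIso _ s) ?_
    intro x hx
    haveI := (hr.comp (qisOn_of_quasiIso _ s')) x hx
    refine ⟨fun n => ?_⟩
    rw [quasiIsoAt_iff_isIso_homologyMap, ((DerSch.stalkFunctor X x).mapHomotopy H').homologyMap_eq n]
    infer_instance
  have hpk := qisOn_push f k hkq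
  rw [good_iff s, good_iff s']
  have e : ∀ y ∈ V, (QuasiIso ((stCx y).map (((theta f I).app P ≫ (pC f).map s) ≫ (pC f).map k)) ↔
      QuasiIso ((stCx y).map ((lhsF f I).map u ≫ (theta f I).app P' ≫ (pC f).map s'))) := by
    intro y _
    have hh : Homotopy (((theta f I).app P ≫ (pC f).map s) ≫ (pC f).map k)
        ((lhsF f I).map u ≫ (theta f I).app P' ≫ (pC f).map s') :=
      (Homotopy.ofEq (by rw [Category.assoc, ← (pC f).map_comp])).trans
        ((((Scheme.Modules.pushforward f).mapHomotopy H').compLeft ((theta f I).app P)).trans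
          (Homotopy.ofEq (by
            rw [← Category.assoc, (theta f I).naturality u, Category.assoc]
            exact congrArg (_ ≫ ·) ((pC f).map_comp _ _))))
    have hst := (DerSch.stalkFunctor Y y).mapHomotopy hh
    constructor <;> intro h <;> refine ⟨fun n => ?_⟩ <;> rw [quasiIsoAt_iff_isIso_homologyMap]
    · rw [← hst.homologyMap_eq n]; exact (quasiIsoAt_iff_isIso_homologyMap _ n).1 (h.quasiIsoAt n)
    · rw [hst.homologyMap_eq n]; exact (quasiIsoAt_iff_isIso_homologyMap _ n).1 (h.quasiIsoAt n)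
  constructor <;> intro h
  · refine QisOn.of_comp_left hl fun y hy => (e y hy).1 ((h.comp hpk) y hy)
  · refine QisOn.of_comp_right hpk fun y hy => (e y hy).2 ((hl.comp h) y hy)

/-- the middle term of a degreewise split short exact sequence -/
theorem good_middle {V : Y.Opens} {S : ShortComplex (CochainComplex Y.Modules ℤ)}
    (σ : ∀ n, (S.map (eval Y.Modules (ComplexShape.up ℤ) n)).Splitting)
    (h₁ : Good f I V S.X₁) (h₃ : Good f I V S.X₃) : Good f I V S.X₂ := by
  let T := S.map (rhsF f I)
  have hT : T.ShortExact := shortExact_of_splitting fun n =>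
    splittingObj (schB X) I (S.map (qC f)) (fun m => (σ m).map (Scheme.Modules.pullback f)) n
  obtain ⟨J₁, s₁, hJ₁, hs₁, hm₁, hi₁⟩ := KInj.exists_kInjective T.X₁
  haveI : Mono T.f := hT.mono_f
  haveI : Mono s₁ := HomologicalComplex.mono_of_mono_f _ hm₁
  let P₂ := pushout T.f s₁
  let a : T.X₂ ⟶ P₂ := pushout.inl _ _
  let b : J₁ ⟶ P₂ := pushout.inr _ _
  have w : T.f ≫ a = s₁ ≫ b := pushout.condition
  haveI : Mono a := Abelian.mono_pushout_of_mono_g T.f s₁
  haveI : Mono b := Abelian.mono_pushout_of_mono_f T.f s₁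
  haveI : QuasiIso a := by
    let S₁ : ShortComplex (CochainComplex X.Modules ℤ) := ShortComplex.mk s₁ (cokernel.π s₁) (cokernel.condition _)
    let S₂ : ShortComplex (CochainComplex X.Modules ℤ) := ShortComplex.mk a (cokernel.π a) (cokernel.condition _)
    haveI := isIso_cokernel_map_of_isPushout (IsPushout.of_hasPushout T.f s₁).flip
    let e : S₁.X₃ ≅ S₂.X₃ := asIso (cokernel.map s₁ a T.f b w.symm)
    have h₁' : S₁.X₃.Acyclic :=
      acyclic₃_of_quasiIso (S := S₁) { exact := ShortComplex.exact_cokernel _ }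
    exact quasiIso_f (S := S₂) { exact := ShortComplex.exact_cokernel _ } (acyclic_of_iso e h₁')
  obtain ⟨J₂, t, hJ₂, ht, hmt, hi₂⟩ := KInj.exists_kInjective P₂
  let s₂ := a ≫ t
  let j := b ≫ t
  haveI : ∀ n, Mono (j.f n) := fun n => by
    haveI := hmt n
    exact (inferInstance : Mono (b.f n ≫ t.f n))
  haveI : Mono j := HomologicalComplex.mono_of_mono_f _ fun n => inferInstance
  have hcomm : T.f ≫ s₂ = s₁ ≫ j := by rw [← Category.assoc, w, Category.assoc]
  haveI : QuasiIso s₂ := quasiIso_comp a t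
  let U : ShortComplex (CochainComplex X.Modules ℤ) := ShortComplex.mk j (cokernel.π j) (cokernel.condition _)
  have hU : U.ShortExact := { exact := ShortComplex.exact_cokernel _ }
  let τ : ∀ n, (U.map (eval X.Modules (ComplexShape.up ℤ) n)).Splitting := fun n =>
    haveI : Injective ((U.map (eval X.Modules (ComplexShape.up ℤ) n)).X₁) := hi₁ n
    (hU.map_of_exact (eval X.Modules (ComplexShape.up ℤ) n)).splittingOfInjective
  haveI : U.X₃.IsKInjective := FilKInj.isKInjective_X₃ τ hJ₁ hJ₂
  haveI : Epi T.g := hT.epi_g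
  let s₃ : T.X₃ ⟶ U.X₃ := hT.exact.desc (s₂ ≫ U.g)
    (by rw [← Category.assoc, hcomm, Category.assoc]; exact (congrArg (s₁ ≫ ·) U.zero).trans comp_zero)
  have hg₃ : T.g ≫ s₃ = s₂ ≫ U.g := hT.exact.g_desc _ _
  let φ : T ⟶ U :=
    { τ₁ := s₁, τ₂ := s₂, τ₃ := s₃, comm₁₂ := hcomm.symm
      comm₂₃ := hg₃.symm }
  haveI : QuasiIso s₃ := HomologicalComplex.HomologySequence.quasiIso_τ₃ φ hT hU hs₁ ‹QuasiIso s₂›
  rw [good_iff s₁] at h₁
  rw [good_iff s₃] at h₃
  rw [good_iff s₂]
  intro y hy
  let F₁ := lhsF f I ⋙ stCx y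
  let F₂ := pC f ⋙ stCx y
  haveI : F₂.PreservesZeroMorphisms := inferInstance
  let A := (S.map (lhsF f I)).map (stCx y)
  let B := U.map F₂
  have hA : A.ShortExact := shortExact_of_splitting fun n =>
    (splittingObj (schB Y) ((pC f).obj I) S σ n).map (DerSch.stalkFunctor Y y)
  have hB : B.ShortExact := shortExact_of_splitting fun n =>
    ((τ n).map (Scheme.Modules.pushforward f)).map (DerSch.stalkFunctor Y y)
  let ψ : A ⟶ B :=
    { τ₁ := (stCx y).map ((theta f I).app S.X₁ ≫ (pC f).map s₁)
      τ₂ := (stCx y).map ((theta f I).app S.X₂ ≫ (pC f).map s₂)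
      τ₃ := (stCx y).map ((theta f I).app S.X₃ ≫ (pC f).map s₃)
      comm₁₂ := ((stCx y).map_comp _ _).symm.trans
        ((congrArg (stCx y).map (theta_comp S.f s₁ s₂ j hcomm)).trans ((stCx y).map_comp _ _))
      comm₂₃ := ((stCx y).map_comp _ _).symm.trans
        ((congrArg (stCx y).map (theta_comp S.g s₂ s₃ U.g hg₃)).trans ((stCx y).map_comp _ _)) }
  haveI : QuasiIso ψ.τ₁ := h₁ y hy
  haveI : QuasiIso ψ.τ₃ := h₃ y hy
  let t' : Pretriangulated.Triangle.mk (DerivedCategory.Q.map A.f) (DerivedCategory.Q.map A.g)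
      (DerivedCategory.triangleOfSESδ hA) ⟶ Pretriangulated.Triangle.mk (DerivedCategory.Q.map B.f)
        (DerivedCategory.Q.map B.g) (DerivedCategory.triangleOfSESδ hB) :=
    { hom₁ := DerivedCategory.Q.map ψ.τ₁
      hom₂ := DerivedCategory.Q.map ψ.τ₂
      hom₃ := DerivedCategory.Q.map ψ.τ₃
      comm₁ := ((DerivedCategory.Q.map_comp _ _).symm.trans ((congrArg _ ψ.comm₁₂.symm).trans (DerivedCategory.Q.map_comp _ _)))
      comm₂ := ((DerivedCategory.Q.map_comp _ _).symm.trans ((congrArg _ ψ.comm₂₃.symm).trans (DerivedCategory.Q.map_comp _ _)))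
      comm₃ := DerivedCategory.triangleOfSESδ_naturality hA hB ψ }
  have h2 : IsIso (DerivedCategory.Q.map ψ.τ₂) :=
    Pretriangulated.isIso₂_of_isIso₁₃ t' (DerivedCategory.triangleOfSES_distinguished hA)
      (DerivedCategory.triangleOfSES_distinguished hB) (inferInstanceAs (IsIso (DerivedCategory.Q.map ψ.τ₁)))
      (inferInstanceAs (IsIso (DerivedCategory.Q.map ψ.τ₃)))
  exact (DerivedCategory.isIso_Q_map_iff_quasiIso _ _).1 h2

end Groth.Agent.ProjForm
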