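import Groth.Agent.ProjForm.Good
import Groth.Agent.DQCoh.Colim

/-!
Closure properties of complexes satisfying the projection formula.
-/

set_option autoImplicit false
set_option backward.isDefEq.respectTransparency false
set_option backward.isDefEq.respectTransparency.types false
set_option linter.style.haveILetI false
set_option linter.unusedSectionVars false

universe u

open CategoryTheory Limits AlgebraicGeometry HomologicalComplex

attribute [local instance] HasDerivedCategory.standard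

namespace Groth.Agent.ProjForm

open Groth.Agent.KFlat

variable {X Y : Scheme.{u}} (f : X ⟶ Y) (I : CochainComplex X.Modules ℤ)

/-- quasi-coherence of the cohomology of `I ⊗ f^*P` over `V` -/
def Qc (V : Y.Opens) (P : CochainComplex Y.Modules ℤ) : Prop :=
  ∀ i, Coh.IsQCoh ((rV (f ⁻¹ᵁ V)).obj (((rhsF f I).obj P).homology i))

variable {f I} {V : Y.Opens}

/-- an isomorphism-closed property detected by two natural transformations -/
lemma isIso_app_of_iso {C D : Type*} [Category* C] [Category* D] {F G : C ⥤ D} (α : F ⟶ G) {A B : C} (e : A ≅ B)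
    (h : IsIso (α.app A)) : IsIso (α.app B) :=
  (NatTrans.isIso_app_iff_of_iso α e).1 h

lemma isIso_of_isColimit {C D J : Type*} [Category* C] [Category* D] [Category* J] {F G : C ⥤ D} (α : F ⟶ G)
    {K : J ⥤ C} {c : Cocone K} (hF : IsColimit (F.mapCocone c)) (hG : IsColimit (G.mapCocone c))
    (h : ∀ j, IsIso (α.app (K.obj j))) : IsIso (α.app c.pt) := by
  let w : K ⋙ F ≅ K ⋙ G := NatIso.ofComponents (fun j => @asIso _ _ _ _ (α.app (K.obj j)) (h j))
    fun g => α.naturality (K.map g)
  have e : α.app c.pt = (hF.coconePointsIsoOfNatIso hG w).hom := hF.hom_ext fun j => by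
    refine Eq.trans ?_ (IsColimit.comp_coconePointsIsoOfNatIso_hom hF hG w j).symm
    exact α.naturality (c.ι.app j)
  rw [e]; infer_instance

lemma qc_of_iso {P P' : CochainComplex Y.Modules ℤ} (e : P ≅ P') (h : Qc f I V P) : Qc f I V P' := fun i =>
  QC.isQCoh_of_iso ((rhsF f I ⋙ homologyFunctor X.Modules (ComplexShape.up ℤ) i ⋙ rV (f ⁻¹ᵁ V)).mapIso e) (h i)

lemma qc_of_qisOn {P P' : CochainComplex Y.Modules ℤ} (u : P ⟶ P') (hu : QisOn V u)
    (hP : KFlatOn V (CochainComplex.mappingCone u)) : Qc f I V P ↔ Qc f I V P' :=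
  forall_congr' fun i => by
    haveI := (qisOn_iff_restrict (f ⁻¹ᵁ V) _).1 (qisOn_rhs (f := f) (I := I) u hu hP) i
    exact ⟨QC.isQCoh_of_iso (asIso ((rV (f ⁻¹ᵁ V)).map (homologyMap ((rhsF f I).map u) i))),
      QC.isQCoh_of_iso (asIso ((rV (f ⁻¹ᵁ V)).map (homologyMap ((rhsF f I).map u) i))).symm⟩

lemma qc_of_isZero {P : CochainComplex Y.Modules ℤ} (h : IsZero P) : Qc f I V P := fun i => by
  haveI : ((DCoh.tensorCx.obj I : CochainComplex X.Modules ℤ ⥤ CochainComplex X.Modules ℤ)).PreservesZeroMorphisms :=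
    inferInstance
  exact DQCoh.isQCoh_of_isZero
    ((rhsF f I ⋙ homologyFunctor X.Modules (ComplexShape.up ℤ) i ⋙ rV (f ⁻¹ᵁ V)).map_isZero h)

theorem qc_middle {S : ShortComplex (CochainComplex Y.Modules ℤ)}
    (σ : ∀ n, (S.map (eval Y.Modules (ComplexShape.up ℤ) n)).Splitting)
    (h₁ : Qc f I V S.X₁) (h₃ : Qc f I V S.X₃) : Qc f I V S.X₂ := fun i => by
  let T := S.map (rhsF f I)
  have hT : T.ShortExact := shortExact_of_splitting fun n =>
    splittingObj (schB X) I (S.map (qC f)) (fun m => (σ m).map (Scheme.Modules.pullback f)) n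
  let R := rV (f ⁻¹ᵁ V)
  have e₁ := (hT.homology_exact₁ (i - 1) i (by simp)).map R
  have e₂ := (hT.homology_exact₂ i).map R
  have e₃ := (hT.homology_exact₃ i (i + 1) (by simp)).map R
  exact DQCoh.isQCoh_of_exact₅ _ _ _ _ _ _ _ e₁ e₂ e₃ (h₃ (i - 1)) (h₁ i) (h₃ i) (h₁ (i + 1))

section Colimit

variable {J : Type u} [SmallCategory J] [IsFiltered J] {D : J ⥤ CochainComplex Y.Modules ℤ} {c : Cocone D}

variable (f) (I)

lemma preservesColimitsOfShape_qC : PreservesColimitsOfShape J (qC f) := by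
  haveI : PreservesColimitsOfSize.{u, u} (Scheme.Modules.pullback f) :=
    (Scheme.Modules.pullbackPushforwardAdjunction f).leftAdjoint_preservesColimits
  exact ⟨fun {K} => ⟨fun {c} hc => ⟨isColimitOfEval _ _ fun k =>
    isColimitOfPreserves (eval Y.Modules (ComplexShape.up ℤ) k ⋙ Scheme.Modules.pullback f) hc⟩⟩⟩

lemma preservesColimitsOfShape_rhsF : PreservesColimitsOfShape J (rhsF f I) := by
  haveI := preservesColimitsOfShape_qC f (J := J)
  haveI : PreservesColimitsOfShape J (DCoh.tensorCx.obj I) :=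
    KFlat.preservesColimitsOfShape_tens_obj (schB X)
      (fun M => (ModSiteTensor.preservesColimits_tensorBi_obj X.sheaf M).preservesColimitsOfShape) I
  infer_instance

lemma preservesColimitsOfShape_lhsF : PreservesColimitsOfShape J (lhsF f I) :=
  KFlat.preservesColimitsOfShape_tens_obj (schB Y)
    (fun M => (ModSiteTensor.preservesColimits_tensorBi_obj Y.sheaf M).preservesColimitsOfShape) _

variable {f I}

theorem qc_colimit (hc : IsColimit c) (h : ∀ j, Qc f I V (D.obj j)) : Qc f I V c.pt := fun i => by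
  haveI := preservesColimitsOfShape_rhsF f I (J := J)
  haveI := DerPush.isGrothendieckAbelian_modules X
  haveI := DQPush.preservesColimitsOfShape_homology (A := X.Modules) (J := J) (ComplexShape.up ℤ) i
  haveI : PreservesColimitsOfSize.{u, u} (rV (f ⁻¹ᵁ V)) :=
    (Scheme.Modules.restrictAdjunction _).leftAdjoint_preservesColimits
  let G := rhsF f I ⋙ homologyFunctor X.Modules (ComplexShape.up ℤ) i ⋙ rV (f ⁻¹ᵁ V)
  exact QC.isQCoh_of_iso ((colimit.isColimit _).coconePointUniqueUpToIso (isColimitOfPreserves G hc))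
    (QC.isQCoh_colimit (D ⋙ G) fun j => h j i)

variable [DCoh.HasRpush f]

/-- filtered colimits -/
theorem good_colimit [QuasiCompact f] [QuasiSeparated f] (hc : IsColimit c) (h : ∀ j, Good f I V (D.obj j))
    (hq : ∀ j, Qc f I V (D.obj j)) : Good f I V c.pt := fun i => by
  haveI := DerPush.hasRpush_sch (f ∣_ V)
  haveI := preservesColimitsOfShape_rhsF f I (J := J)
  haveI := preservesColimitsOfShape_lhsF f I (J := J)
  haveI := DerPush.isGrothendieckAbelian_modules Y
  haveI := DQPush.preservesColimitsOfShape_homology (A := Y.Modules) (J := J) (ComplexShape.up ℤ) i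
  haveI : PreservesColimitsOfSize.{u, u} (rV V) := (Scheme.Modules.restrictAdjunction _).leftAdjoint_preservesColimits
  let RX := rV (f ⁻¹ᵁ V)
  let RC := RX.mapHomologicalComplex (ComplexShape.up ℤ)
  haveI : PreservesColimitsOfSize.{u, u} RX := (Scheme.Modules.restrictAdjunction _).leftAdjoint_preservesColimits
  haveI : PreservesColimitsOfShape J RC :=
    ⟨fun {K} => ⟨fun {c} hc => ⟨isColimitOfEval _ _ fun k =>
      isColimitOfPreserves (eval X.Modules (ComplexShape.up ℤ) k ⋙ RX) hc⟩⟩⟩
  have hD : ∀ j, DCoh.IsQCohD (DCoh.toD _ ((D ⋙ rhsF f I ⋙ RC).obj j)) := fun j m =>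
    QC.isQCoh_of_iso ((((rhsF f I).obj (D.obj j)).sc m).mapHomologyIso RX).symm
      (hq j m) |> QC.isQCoh_of_iso (KFlat.hdIso _ m).symm
  obtain ⟨hR⟩ := DQPush.isColimit_rpushH_qcoh (f ∣_ V) (D ⋙ rhsF f I ⋙ RC) hD
    (isColimitOfPreserves (rhsF f I ⋙ RC) hc) i
  have hG : IsColimit ((rhsF f I ⋙ DQPush.rpushH f i ⋙ rV V).mapCocone c) :=
    IsColimit.mapCoconeEquiv (Functor.isoWhiskerLeft (rhsF f I) (DQPush.rpushHRestrIso f V i).symm)
      (IsColimit.ofIsoColimit hR (Cocone.ext (Iso.refl _) fun j => Category.comp_id _))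
  exact isIso_of_isColimit (Functor.whiskerRight (eta f I i) (rV V))
    (isColimitOfPreserves (lhsF f I ⋙ homologyFunctor Y.Modules (ComplexShape.up ℤ) i ⋙ rV V) hc) hG
    fun j => h j i

end Colimit

variable [DCoh.HasRpush f]

lemma good_of_iso {P P' : CochainComplex Y.Modules ℤ} (e : P ≅ P') (h : Good f I V P) : Good f I V P' := fun i =>
  isIso_app_of_iso (Functor.whiskerRight (eta f I i) (rV V)) e (h i)

lemma good_of_isZero {P : CochainComplex Y.Modules ℤ} (h : IsZero P) : Good f I V P := fun i => by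
  have hr : IsZero ((rhsF f I).obj P) := (rhsF f I).map_isZero h
  haveI : ((rhsF f I).obj P).IsKInjective := ⟨fun g _ => ⟨Homotopy.ofEq (hr.eq_of_tgt g 0)⟩⟩
  haveI := isIso_tau_app f i ((rhsF f I).obj P)
  have h₂ : IsZero ((rV V).obj ((DQPush.rpushH f i).obj ((rhsF f I).obj P))) :=
    ((pC f ⋙ homologyFunctor Y.Modules (ComplexShape.up ℤ) i ⋙ rV V).map_isZero hr).of_iso
      ((rV V).mapIso (asIso ((tau f i).app ((rhsF f I).obj P))).symm)
  exact ((lhsF f I ⋙ homologyFunctor Y.Modules (ComplexShape.up ℤ) i ⋙ rV V).map_isZero h).isIso (f := _) h₂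

end Groth.Agent.ProjForm
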