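import Groth.Agent.ProjForm.Range
import Groth.Agent.ProjForm.Single
import Groth.Agent.ProjForm.Stupid
import Groth.Agent.DQCoh.Affine
import Groth.Agent.KFlat.FreeSystem
import Groth.Agent.TildeKFlat.Main

/-!
The projection formula over an affine open for K-flat complexes with quasi-coherent cohomology.
-/

set_option autoImplicit false
set_option backward.isDefEq.respectTransparency false
set_option backward.isDefEq.respectTransparency.types false
set_option linter.style.haveILetI false
set_option linter.unusedSectionVars false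

universe u

open CategoryTheory Limits AlgebraicGeometry HomologicalComplex DirectSum

attribute [local instance] HasDerivedCategory.standard

namespace Groth.Agent.ProjForm

open Groth.Agent.KFlat

section Free

variable {R : CommRingCat.{u}}

/-- the free module of rank one -/
noncomputable abbrev oneFam : PUnit.{u + 1} → ModuleCat.{u} R := fun _ => ModuleCat.of R R

lemma exists_epi_free (M : ModuleCat.{u} R) :
    ∃ (P : ModuleCat.{u} R) (p : P ⟶ M), Epi p ∧ IsSum oneFam P := by
  let N : M → ModuleCat.{u} R := fun _ => ModuleCat.of R R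
  refine ⟨∐ N, Sigma.desc fun m => ModuleCat.ofHom (LinearMap.toSpanSingleton R M m), ?_,
    ⟨M, fun _ => PUnit.unit, ⟨Iso.refl _⟩⟩⟩
  rw [ModuleCat.epi_iff_surjective]
  intro m
  refine ⟨Sigma.ι N m (1 : R), ?_⟩
  rw [← ConcreteCategory.comp_apply, Sigma.ι_desc]
  exact one_smul R m

lemma flat_of_isSum {M : ModuleCat.{u} R} (h : IsSum oneFam M) : Module.Flat R M := by
  classical
  obtain ⟨α, U, ⟨e⟩⟩ := h
  exact Module.Flat.of_linearEquiv (e ≪≫ ModuleCat.coprodIsoDirectSum _).toLinearEquiv

lemma isKFlat_free {F : CochainComplex (ModuleCat.{u} R) ℤ} {b : ℤ} [F.IsStrictlyLE b]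
    (h : ∀ i, IsSum oneFam (F.X i)) : DRingKP.IsKFlat F :=
  DRingKP.isKFlat_of_bounded (fun i hi => F.isZero_of_isStrictlyLE b i hi) fun i => flat_of_isSum (h i)

end Free

variable {X Y : Scheme.{u}} (f : X ⟶ Y) (I : CochainComplex X.Modules ℤ)
  {R : CommRingCat.{u}} (j : Spec R ⟶ Y) [IsOpenImmersion j]

/-- extension by zero of quasi-coherent modules -/
noncomputable abbrev extTilde : ModuleCat.{u} R ⥤ Y.Modules := tilde.functor R ⋙ CxOX.extZero j

lemma preservesColimits_extTilde : PreservesColimitsOfSize.{u, u} (extTilde j) :=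
  ((tilde.adjunction (R := R)).comp (CxOX.extZeroAdj j)).leftAdjoint_preservesColimits

/-- comparison of a free module on the open with one on the whole -/
lemma exists_extTilde_to_free (M : ModuleCat.{u} R) (h : IsSum oneFam M) :
    ∃ (α : Type u) (φ : (extTilde j).obj M ⟶ ∐ fun _ : α => Coh.structureModule Y),
      ∀ y ∈ j.opensRange, IsIso ((DerSch.stalkFunctor Y y).map φ) := by
  obtain ⟨α, U, ⟨e⟩⟩ := h
  haveI := preservesColimits_extTilde j
  let Rj := Scheme.Modules.restrictFunctor j
  let a := CxOX.extZeroAdj j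
  let γ : tilde (ModuleCat.of R R) ≅ Rj.obj (Coh.structureModule Y) :=
    tildeSelf ≪≫ (DerPerf.pullUnitIso j).symm ≪≫
      ((Scheme.Modules.restrictFunctorIsoPullback j).app (Coh.structureModule Y)).symm
  let g : (extTilde j).obj (ModuleCat.of R R) ⟶ Coh.structureModule Y := (a.homEquiv _ _).symm γ.hom
  refine ⟨α, (extTilde j).map e.hom ≫ (PreservesCoproduct.iso (extTilde j) _).hom ≫ Limits.Sigma.map (fun _ : α => g), ?_⟩
  rw [← isIso_restrictJ_iff]
  let T := (tilde.functor R).obj (ModuleCat.of R R)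
  haveI : IsIso (a.unit.app T) := by
    haveI := isIso_extZero_unit j; infer_instance
  haveI hg : IsIso (Rj.map g) := by
    have h : a.unit.app T ≫ Rj.map g = γ.hom :=
      (a.homEquiv_unit _ _ _).symm.trans ((a.homEquiv _ _).apply_symm_apply _)
    exact @IsIso.of_isIso_comp_left _ _ _ _ _ (a.unit.app T) (Rj.map g) this (h.symm ▸ inferInstanceAs (IsIso γ.hom))
  haveI : PreservesColimitsOfSize.{u, u} Rj := (Scheme.Modules.restrictAdjunction j).leftAdjoint_preservesColimits
  haveI : IsIso (Rj.map (Limits.Sigma.map fun _ : α => g)) := by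
    let h₁ := isColimitOfPreserves Rj (colimit.isColimit (Discrete.functor fun _ : α => (extTilde j).obj (ModuleCat.of R R)))
    let h₂ := isColimitOfPreserves Rj (colimit.isColimit (Discrete.functor fun _ : α => Coh.structureModule Y))
    let w : Discrete.functor (fun _ : α => (extTilde j).obj (ModuleCat.of R R)) ⋙ Rj ≅
        Discrete.functor (fun _ : α => Coh.structureModule Y) ⋙ Rj := Discrete.natIso fun _ => asIso (Rj.map g)
    have e : Rj.map (Limits.Sigma.map fun _ : α => g) = (h₁.coconePointsIsoOfNatIso h₂ w).hom := h₁.hom_ext fun t => by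
      refine Eq.trans ?_ (IsColimit.comp_coconePointsIsoOfNatIso_hom h₁ h₂ w t).symm
      refine (Rj.map_comp _ _).symm.trans ((congrArg Rj.map ?_).trans (Rj.map_comp _ _))
      exact Sigma.ι_map (fun _ : α => g) t.as
    rw [e]
    infer_instance
  change IsIso (Rj.map _)
  rw [Functor.map_comp, Functor.map_comp]
  infer_instance

variable [DCoh.HasRpush f] [QuasiCompact f] [QuasiSeparated f] [I.IsKInjective]

/-- extensions of free modules in one degree -/
lemma qGood_extTilde (hI : ∀ i, Coh.IsQCoh ((rV (f ⁻¹ᵁ j.opensRange)).obj (I.homology i))) (k : ℤ)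
    (M : ModuleCat.{u} R) (h : IsSum oneFam M) : QGood f I j.opensRange ((sgl k).obj ((extTilde j).obj M)) := by
  obtain ⟨α, φ, hφ⟩ := exists_extTilde_to_free j M h
  have h' : ∀ y ∈ j.opensRange, IsIso ((stCx y).map ((sgl k).map φ)) := fun y hy => by
    haveI := hφ y hy
    exact (NatIso.isIso_map_iff
      (HomologicalComplex.singleMapHomologicalComplex (DerSch.stalkFunctor Y y) (ComplexShape.up ℤ) k) φ).2
        (inferInstanceAs (IsIso ((single _ (ComplexShape.up ℤ) k).map ((DerSch.stalkFunctor Y y).map φ))))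
  have hq : QisOn j.opensRange ((sgl k).map φ) := fun y hy => by haveI := h' y hy; infer_instance
  have hk := kFlatOn_cone_of_isIso ((sgl k).map φ) h'
  have hG := qGood_free f I j.opensRange hI k α
  exact ⟨(good_iff_of_qisOn _ hq hk).2 hG.1, (qc_of_qisOn _ hq hk).2 hG.2⟩

/-- extensions of colimits of bounded above free complexes -/
theorem qGood_free_system (hI : ∀ i, Coh.IsQCoh ((rV (f ⁻¹ᵁ j.opensRange)).obj (I.homology i)))
    {D : ℕ ⥤ CochainComplex (ModuleCat.{u} R) ℤ} {c : Cocone D} (hc : IsColimit c)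
    (hb : ∀ n : ℕ, ∃ b : ℤ, (D.obj n).IsStrictlyLE b) (hs : ∀ (n : ℕ) (i : ℤ), IsSum oneFam ((D.obj n).X i)) :
    QGood f I j.opensRange (((extTilde j).mapHomologicalComplex (ComplexShape.up ℤ)).obj c.pt) := by
  haveI := preservesColimits_extTilde j
  let L := (extTilde j).mapHomologicalComplex (ComplexShape.up ℤ)
  haveI hfil : IsFiltered (AsSmall.{u} ℕ) := IsFiltered.of_equivalence (AsSmall.equiv (C := ℕ))
  let e := (AsSmall.equiv.{0, 0, u} (C := ℕ)).symm
  let Pr : CochainComplex Y.Modules ℤ → Prop := QGood f I j.opensRange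
  have h0 : ∀ P, IsZero P → Pr P := fun _ h => ⟨good_of_isZero h, qc_of_isZero h⟩
  have hm : ∀ {S : ShortComplex (CochainComplex Y.Modules ℤ)},
      (∀ n, (S.map (eval Y.Modules (ComplexShape.up ℤ) n)).Splitting) → Pr S.X₁ → Pr S.X₃ → Pr S.X₂ :=
    fun σ h₁ h₃ => ⟨good_middle σ h₁.1 h₃.1, qc_middle σ h₁.2 h₃.2⟩
  have hcl : ∀ (J : Type u) [SmallCategory J] [IsFiltered J] (K : J ⥤ CochainComplex Y.Modules ℤ) (c : Cocone K),
      IsColimit c → (∀ t, Pr (K.obj t)) → Pr c.pt := fun J _ _ K c hc h =>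
    ⟨good_colimit (D := K) (c := c) hc (fun t => (h t).1) (fun t => (h t).2),
      qc_colimit (D := K) (c := c) hc fun t => (h t).2⟩
  have hn : ∀ n, Pr (L.obj (D.obj n)) := fun n => by
    obtain ⟨b, hb⟩ := hb n
    exact Stupid.prop_of_boundedAbove.{u} (L.obj (D.obj n)) Pr h0 hm hcl
      (fun i hi => (extTilde j).map_isZero ((D.obj n).isZero_of_isStrictlyLE b i hi))
      fun i => qGood_extTilde f I j hI i _ (hs n i)
  haveI : PreservesColimitsOfShape (AsSmall.{u} ℕ) L :=
    ⟨fun {K} => ⟨fun {c} hc => ⟨isColimitOfEval _ _ fun k =>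
      isColimitOfPreserves (eval _ (ComplexShape.up ℤ) k ⋙ extTilde j) hc⟩⟩⟩
  exact hcl (AsSmall.{u} ℕ) ((e.functor ⋙ D) ⋙ L) (L.mapCocone (c.whisker e.functor))
    (isColimitOfPreserves L (hc.whiskerEquivalence e)) fun t => hn (e.functor.obj t)

/-- **the projection formula over an affine open** -/
theorem good_of_affine {V : Y.Opens} (hV : IsAffineOpen V) (hI : ∀ i, Coh.IsQCoh (I.homology i))
    {P : CochainComplex Y.Modules ℤ} (hP : DCoh.IsKFlat P) (hPq : ∀ i, Coh.IsQCoh (P.homology i)) :
    Good f I V P := by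
  have hr : hV.fromSpec.opensRange = V := hV.opensRange_fromSpec
  suffices Good f I hV.fromSpec.opensRange P from hr ▸ this
  let j := hV.fromSpec
  let C := ((Scheme.Modules.restrictFunctor j).mapHomologicalComplex (ComplexShape.up ℤ)).obj P
  have hC : DCoh.IsQCohD (DerivedCategory.Q.obj C) := fun i =>
    QC.isQCoh_of_iso ((DerivedCategory.homologyFunctorFactors _ i).app C ≪≫
      (P.sc i).mapHomologyIso (Scheme.Modules.restrictFunctor j)).symm (QC.isQCoh_restrict j (hPq i))
  obtain ⟨M, ⟨eM⟩⟩ := (DQCoh.tildeD_affine.2.2 _).1 hC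
  let M₀ := (DerivedCategory.Q : _ ⥤ DerivedCategory (ModuleCat.{u} Γ(Y, V))).objPreimage M
  haveI : HasExactColimitsOfShape ℕ (ModuleCat.{u} Γ(Y, V)) :=
    HasExactColimitsOfShape.of_domain_equivalence (C := ModuleCat.{u} Γ(Y, V)) (AsSmall.equiv.{0, 0, u} (C := ℕ)).symm
  obtain ⟨D, π, -, -, hb, hs, -, c, -, hcq⟩ := exists_trunc_system M₀ (T := oneFam) exists_epi_free
  let F := colimit D
  have hF : DRing.IsKFlat Γ(Y, V) F := (DRingKP.rflat_iff F).1 (rflat_of_isColimit (D := D) (c := colimit.cocone D)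
    (DRingKP.preservesNat_tB _) (colimit.isColimit D) fun n => by
      obtain ⟨b, hb⟩ := hb n
      exact (DRingKP.rflat_iff _).2 (isKFlat_free (F := D.obj n) (b := b) (hs n)))
  let Tc := (tilde.functor Γ(Y, V)).mapHomologicalComplex (ComplexShape.up ℤ)
  haveI : PreservesFiniteLimits (tilde.functor Γ(Y, V)) := inferInstance
  haveI : QuasiIso (Tc.map c) := quasiIso_map_of_preservesHomology c (tilde.functor Γ(Y, V))
  let e : DerivedCategory.Q.obj (Tc.obj F) ≅ DerivedCategory.Q.obj C :=
    asIso (DerivedCategory.Q.map (Tc.map c)) ≪≫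
      ((tilde.functor Γ(Y, V)).mapDerivedCategoryFactors.app M₀).symm ≪≫
      (DCoh.tildeD Γ(Y, V)).mapIso (DerivedCategory.Q.objObjPreimageIso M) ≪≫ eM
  refine good_of_ext j hP (TildeKFlat.tilde_isKFlat F hF) ⟨e⟩ ?_
  exact good_of_iso (Hom.isoOfComponents (fun n => Iso.refl _) fun a b _ => by
      simp only [Iso.refl_hom, Category.id_comp, Category.comp_id])
    (qGood_free_system f I j (fun i => QC.isQCoh_restrict _ (hI i)) (colimit.isColimit D) hb hs).1

end Groth.Agent.ProjForm
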