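import Groth.Agent.KFlat.Tensor
import Mathlib.CategoryTheory.GradedObject

/-!
A natural transformation between bifunctors induces natural maps of total tensor products.
-/

set_option autoImplicit false
set_option linter.unusedSectionVars false

namespace Groth.Agent.ProjForm

open CategoryTheory Limits HomologicalComplex

variable {C₁ C₂ A₁ A₂ A A₁' A₂' A' : Type*} [Category* C₁] [Category* C₂] [Category* A₁] [Category* A₂]
  [Category* A] [Category* A₁'] [Category* A₂'] [Category* A'] [Abelian C₁] [Abelian C₂] [Abelian A₁]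
  [Abelian A₂] [Abelian A] [Abelian A₁'] [Abelian A₂'] [Abelian A']
  (F₁ : C₁ ⥤ A₁') [F₁.Additive] (F₂ : C₂ ⥤ A₂') [F₂.Additive]
  (H₁ : C₁ ⥤ A₁) [H₁.Additive] (H₂ : C₂ ⥤ A₂) [H₂.Additive]
  (G : A ⥤ A') [G.Additive]
  (B : A₁ ⥤ A₂ ⥤ A) [B.Additive] [∀ X, (B.obj X).Additive]
  (B' : A₁' ⥤ A₂' ⥤ A') [B'.Additive] [∀ X, (B'.obj X).Additive]
  [∀ (K : CochainComplex A₁ ℤ) (L : CochainComplex A₂ ℤ),
    HomologicalComplex.HasMapBifunctor K L B (ComplexShape.up ℤ)]
  [∀ (K : CochainComplex A₁' ℤ) (L : CochainComplex A₂' ℤ),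
    HomologicalComplex.HasMapBifunctor K L B' (ComplexShape.up ℤ)]
  (e : ∀ M N, (B'.obj (F₁.obj M)).obj (F₂.obj N) ⟶ G.obj ((B.obj (H₁.obj M)).obj (H₂.obj N)))
  (he₁ : ∀ {M M' : C₁} (f : M ⟶ M') (N : C₂),
    (B'.map (F₁.map f)).app (F₂.obj N) ≫ e M' N =
      e M N ≫ G.map ((B.map (H₁.map f)).app (H₂.obj N)))
  (he₂ : ∀ (M : C₁) {N N' : C₂} (g : N ⟶ N'),
    (B'.obj (F₁.obj M)).map (F₂.map g) ≫ e M N' =
      e M N ≫ G.map ((B.obj (H₁.obj M)).map (H₂.map g)))

/-- the degreewise comparison -/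
noncomputable def mapTensHomX (L : CochainComplex C₁ ℤ) (K : CochainComplex C₂ ℤ) (n : ℤ) :
    (HomologicalComplex.mapBifunctor ((F₁.mapHomologicalComplex (ComplexShape.up ℤ)).obj L)
        ((F₂.mapHomologicalComplex (ComplexShape.up ℤ)).obj K) B' (ComplexShape.up ℤ)).X n ⟶
      G.obj ((HomologicalComplex.mapBifunctor ((H₁.mapHomologicalComplex (ComplexShape.up ℤ)).obj L) ((H₂.mapHomologicalComplex (ComplexShape.up ℤ)).obj K) B (ComplexShape.up ℤ)).X n) :=
  mapBifunctorDesc fun p q h => e (L.X p) (K.X q) ≫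
    G.map (ιMapBifunctor ((H₁.mapHomologicalComplex (ComplexShape.up ℤ)).obj L) ((H₂.mapHomologicalComplex (ComplexShape.up ℤ)).obj K) B (ComplexShape.up ℤ) p q n h)

lemma ι_mapTensHomX (L : CochainComplex C₁ ℤ) (K : CochainComplex C₂ ℤ) (n p q : ℤ)
    (h : ComplexShape.π (ComplexShape.up ℤ) (ComplexShape.up ℤ) (ComplexShape.up ℤ) (p, q) = n) :
    ιMapBifunctor ((F₁.mapHomologicalComplex (ComplexShape.up ℤ)).obj L) ((F₂.mapHomologicalComplex (ComplexShape.up ℤ)).obj K) B'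
        (ComplexShape.up ℤ) p q n h ≫ mapTensHomX F₁ F₂ H₁ H₂ G B B' e L K n =
      e (L.X p) (K.X q) ≫ G.map (ιMapBifunctor ((H₁.mapHomologicalComplex (ComplexShape.up ℤ)).obj L) ((H₂.mapHomologicalComplex (ComplexShape.up ℤ)).obj K) B (ComplexShape.up ℤ) p q n h) :=
  ι_mapBifunctorDesc _ p q h

include he₁ he₂ in
lemma mapTensHomX_comm (L : CochainComplex C₁ ℤ) (K : CochainComplex C₂ ℤ) (n n' : ℤ) (hn : n + 1 = n') :
    mapTensHomX F₁ F₂ H₁ H₂ G B B' e L K n ≫ G.map ((HomologicalComplex.mapBifunctor ((H₁.mapHomologicalComplex (ComplexShape.up ℤ)).obj L) ((H₂.mapHomologicalComplex (ComplexShape.up ℤ)).obj K) B (ComplexShape.up ℤ)).d n n') =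
      (HomologicalComplex.mapBifunctor ((F₁.mapHomologicalComplex (ComplexShape.up ℤ)).obj L)
        ((F₂.mapHomologicalComplex (ComplexShape.up ℤ)).obj K) B' (ComplexShape.up ℤ)).d n n' ≫
        mapTensHomX F₁ F₂ H₁ H₂ G B B' e L K n' := by
  subst hn
  refine mapBifunctor.hom_ext fun p q h => ?_
  have h' : p + q = n := h
  have hd : ιMapBifunctor ((F₁.mapHomologicalComplex (ComplexShape.up ℤ)).obj L) ((F₂.mapHomologicalComplex (ComplexShape.up ℤ)).obj K) B'
      (ComplexShape.up ℤ) p q n h ≫ mapTensHomX F₁ F₂ H₁ H₂ G B B' e L K n ≫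
        G.map ((HomologicalComplex.mapBifunctor ((H₁.mapHomologicalComplex (ComplexShape.up ℤ)).obj L) ((H₂.mapHomologicalComplex (ComplexShape.up ℤ)).obj K) B (ComplexShape.up ℤ)).d n (n + 1)) =
      e (L.X p) (K.X q) ≫ G.map (ιMapBifunctor ((H₁.mapHomologicalComplex (ComplexShape.up ℤ)).obj L) ((H₂.mapHomologicalComplex (ComplexShape.up ℤ)).obj K) B (ComplexShape.up ℤ) p q n h ≫
        (HomologicalComplex.mapBifunctor ((H₁.mapHomologicalComplex (ComplexShape.up ℤ)).obj L) ((H₂.mapHomologicalComplex (ComplexShape.up ℤ)).obj K) B (ComplexShape.up ℤ)).d n (n + 1)) :=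
    (Category.assoc _ _ _).symm.trans ((congrArg (· ≫ _) (ι_mapTensHomX F₁ F₂ H₁ H₂ G B B' e L K n p q h)).trans
      ((Category.assoc _ _ _).trans (congrArg (e (L.X p) (K.X q) ≫ ·) (G.map_comp _ _).symm)))
  have h₁ : ComplexShape.π (ComplexShape.up ℤ) (ComplexShape.up ℤ) (ComplexShape.up ℤ) (p + 1, q) = n + 1 :=
    show p + 1 + q = n + 1 by lia
  have h₂ : ComplexShape.π (ComplexShape.up ℤ) (ComplexShape.up ℤ) (ComplexShape.up ℤ) (p, q + 1) = n + 1 :=
    show p + (q + 1) = n + 1 by lia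
  have combine : ∀ {P : A'} {Q R : A} (w : P ⟶ G.obj Q) (x y : Q ⟶ R) (a b : ℤˣ),
      w ≫ G.map (a • x + b • y) = a • (w ≫ G.map x) + b • (w ≫ G.map y) := fun w x y a b => by
    simp [Units.smul_def]
  let L' := (F₁.mapHomologicalComplex (ComplexShape.up ℤ)).obj L
  let K' := (F₂.mapHomologicalComplex (ComplexShape.up ℤ)).obj K
  let L₀ := (H₁.mapHomologicalComplex (ComplexShape.up ℤ)).obj L
  let K₀ := (H₂.mapHomologicalComplex (ComplexShape.up ℤ)).obj K
  have hB : ιMapBifunctor L₀ K₀ B (ComplexShape.up ℤ) p q n h ≫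
      (HomologicalComplex.mapBifunctor L₀ K₀ B (ComplexShape.up ℤ)).d n (n + 1) =
        ComplexShape.ε₁ (ComplexShape.up ℤ) (ComplexShape.up ℤ) (ComplexShape.up ℤ) (p, q) •
          ((B.map (L₀.d p (p + 1))).app (K₀.X q) ≫ ιMapBifunctor L₀ K₀ B (ComplexShape.up ℤ) (p + 1) q (n + 1) h₁) +
        ComplexShape.ε₂ (ComplexShape.up ℤ) (ComplexShape.up ℤ) (ComplexShape.up ℤ) (p, q) •
          ((B.obj (L₀.X p)).map (K₀.d q (q + 1)) ≫ ιMapBifunctor L₀ K₀ B (ComplexShape.up ℤ) p (q + 1) (n + 1) h₂) := by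
    rw [mapBifunctor.d_eq, Preadditive.comp_add, mapBifunctor.ι_D₁, mapBifunctor.ι_D₂,
      mapBifunctor.d₁_eq _ _ _ _ (show (ComplexShape.up ℤ).Rel p (p + 1) from rfl) q (n + 1) h₁,
      mapBifunctor.d₂_eq _ _ _ _ p (show (ComplexShape.up ℤ).Rel q (q + 1) from rfl) (n + 1) h₂]
  have hB' : ιMapBifunctor L' K' B' (ComplexShape.up ℤ) p q n h ≫
      (HomologicalComplex.mapBifunctor L' K' B' (ComplexShape.up ℤ)).d n (n + 1) ≫
        mapTensHomX F₁ F₂ H₁ H₂ G B B' e L K (n + 1) =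
        ComplexShape.ε₁ (ComplexShape.up ℤ) (ComplexShape.up ℤ) (ComplexShape.up ℤ) (p, q) •
          (((B'.map (L'.d p (p + 1))).app (K'.X q) ≫ ιMapBifunctor L' K' B' (ComplexShape.up ℤ) (p + 1) q (n + 1) h₁) ≫
            mapTensHomX F₁ F₂ H₁ H₂ G B B' e L K (n + 1)) +
        ComplexShape.ε₂ (ComplexShape.up ℤ) (ComplexShape.up ℤ) (ComplexShape.up ℤ) (p, q) •
          (((B'.obj (L'.X p)).map (K'.d q (q + 1)) ≫ ιMapBifunctor L' K' B' (ComplexShape.up ℤ) p (q + 1) (n + 1) h₂) ≫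
            mapTensHomX F₁ F₂ H₁ H₂ G B B' e L K (n + 1)) := by
    rw [mapBifunctor.d_eq, Preadditive.add_comp, Preadditive.comp_add, mapBifunctor.ι_D₁_assoc,
      mapBifunctor.ι_D₂_assoc,
      mapBifunctor.d₁_eq _ _ _ _ (show (ComplexShape.up ℤ).Rel p (p + 1) from rfl) q (n + 1) h₁,
      mapBifunctor.d₂_eq _ _ _ _ p (show (ComplexShape.up ℤ).Rel q (q + 1) from rfl) (n + 1) h₂,
      Linear.units_smul_comp, Linear.units_smul_comp]
  refine hd.trans (((congrArg (fun t => e (L.X p) (K.X q) ≫ G.map t) hB).trans (combine _ _ _ _ _)).trans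
    (Eq.trans ?_ hB'.symm))
  refine congrArg₂ (· + ·) (congrArg (_ • ·) ?_) (congrArg (_ • ·) ?_)
  · refine Eq.trans ?_ ((congrArg (_ ≫ ·) (ι_mapTensHomX F₁ F₂ H₁ H₂ G B B' e L K (n + 1) (p + 1) q h₁)).symm.trans
      (Category.assoc _ _ _).symm)
    exact (congrArg (_ ≫ ·) (G.map_comp _ _)).trans ((Category.assoc _ _ _).symm.trans
      ((congrArg (· ≫ _) (he₁ (L.d p (p + 1)) (K.X q)).symm).trans (Category.assoc _ _ _)))
  · refine Eq.trans ?_ ((congrArg (_ ≫ ·) (ι_mapTensHomX F₁ F₂ H₁ H₂ G B B' e L K (n + 1) p (q + 1) h₂)).symm.trans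
      (Category.assoc _ _ _).symm)
    exact (congrArg (_ ≫ ·) (G.map_comp _ _)).trans ((Category.assoc _ _ _).symm.trans
      ((congrArg (· ≫ _) (he₂ (L.X p) (K.d q (q + 1))).symm).trans (Category.assoc _ _ _)))

/-- the comparison map -/
noncomputable def mapTensHom (L : CochainComplex C₁ ℤ) (K : CochainComplex C₂ ℤ) :
    HomologicalComplex.mapBifunctor ((F₁.mapHomologicalComplex (ComplexShape.up ℤ)).obj L)
        ((F₂.mapHomologicalComplex (ComplexShape.up ℤ)).obj K) B' (ComplexShape.up ℤ) ⟶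
      (G.mapHomologicalComplex (ComplexShape.up ℤ)).obj
        (HomologicalComplex.mapBifunctor ((H₁.mapHomologicalComplex (ComplexShape.up ℤ)).obj L)
          ((H₂.mapHomologicalComplex (ComplexShape.up ℤ)).obj K) B (ComplexShape.up ℤ)) where
  f := mapTensHomX F₁ F₂ H₁ H₂ G B B' e L K
  comm' i j h := mapTensHomX_comm F₁ F₂ H₁ H₂ G B B' e he₁ he₂ L K i j h

/-- naturality in the second variable -/
lemma mapTensHom_natural₂ (L : CochainComplex C₁ ℤ) {K K' : CochainComplex C₂ ℤ} (u : K ⟶ K') :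
    mapBifunctorMap (𝟙 ((F₁.mapHomologicalComplex (ComplexShape.up ℤ)).obj L))
        ((F₂.mapHomologicalComplex (ComplexShape.up ℤ)).map u) B' (ComplexShape.up ℤ) ≫
        mapTensHom F₁ F₂ H₁ H₂ G B B' e he₁ he₂ L K' =
      mapTensHom F₁ F₂ H₁ H₂ G B B' e he₁ he₂ L K ≫
        (G.mapHomologicalComplex (ComplexShape.up ℤ)).map (mapBifunctorMap
          (𝟙 ((H₁.mapHomologicalComplex (ComplexShape.up ℤ)).obj L))
          ((H₂.mapHomologicalComplex (ComplexShape.up ℤ)).map u) B (ComplexShape.up ℤ)) := by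
  refine HomologicalComplex.Hom.ext (funext fun n => mapBifunctor.hom_ext fun p q h => ?_)
  simp only [HomologicalComplex.comp_f]
  dsimp only [mapTensHom]
  rw [ι_mapBifunctorMap_assoc]
  simp only [HomologicalComplex.id_f, CategoryTheory.Functor.map_id, NatTrans.id_app, Category.id_comp,
    Functor.mapHomologicalComplex_map_f]
  erw [ι_mapTensHomX F₁ F₂ H₁ H₂ G B B' e L K' n p q h,
    reassoc_of% (ι_mapTensHomX F₁ F₂ H₁ H₂ G B B' e L K n p q h)]
  have hu := congrArg G.map (HomologicalComplex.ι_mapBifunctorMap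
    (𝟙 ((H₁.mapHomologicalComplex (ComplexShape.up ℤ)).obj L))
    ((H₂.mapHomologicalComplex (ComplexShape.up ℤ)).map u) B (ComplexShape.up ℤ) p q n h)
  simp only [HomologicalComplex.id_f, CategoryTheory.Functor.map_id, NatTrans.id_app, Category.id_comp,
    Functor.map_comp] at hu
  exact (Category.assoc _ _ _).symm.trans ((congrArg (· ≫ _) (he₂ (L.X p) (u.f q))).trans
    ((Category.assoc _ _ _).trans ((congrArg (e _ _ ≫ ·) hu.symm).trans (Category.assoc _ _ _).symm)))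

end Groth.Agent.ProjForm
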